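import Mathlib
import Cfsg.Prelude.Def_SporCoxeter

/-! Sub-presentations of the presentation of `Fi₂₄` used to derive the spider relation
`(d c b d e f d h i)^10 = 1`: `SP6` (the `Y₅₂₂` sub-diagram `l,k,a,b,c,d,e,f,h,i` with the relation
`l = (a b c d e f h)^9`), `E8h` (the affine `E₈` sub-diagram `l,k,a,b,c,d,e,f,h` with the same relation)
and `WE7` (the Coxeter group of type `E₇` on `a,b,c,d,e,f,h`). -/

set_option autoImplicit false

namespace Cfsg.Agent.Helper17.Fi24Sp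

namespace SP6

inductive Gen
  | l
  | k
  | a
  | b
  | c
  | d
  | e
  | f
  | h
  | i
  deriving DecidableEq

abbrev l : FreeGroup Gen := FreeGroup.of Gen.l
abbrev k : FreeGroup Gen := FreeGroup.of Gen.k
abbrev a : FreeGroup Gen := FreeGroup.of Gen.a
abbrev b : FreeGroup Gen := FreeGroup.of Gen.b
abbrev c : FreeGroup Gen := FreeGroup.of Gen.c
abbrev d : FreeGroup Gen := FreeGroup.of Gen.d
abbrev e : FreeGroup Gen := FreeGroup.of Gen.e
abbrev f : FreeGroup Gen := FreeGroup.of Gen.f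
abbrev h : FreeGroup Gen := FreeGroup.of Gen.h
abbrev i : FreeGroup Gen := FreeGroup.of Gen.i

def edges : List (Gen × ℕ × Gen) :=
  [(.l, 3, .k), (.k, 3, .a), (.a, 3, .b), (.b, 3, .c), (.c, 3, .d), (.d, 3, .e), (.d, 3, .h), (.e, 3, .f), (.h, 3, .i)]

def extra : List (FreeGroup Gen) := [l * (((a * b * c * d * e * f * h) ^ 9)⁻¹)]

end SP6

namespace E8h

inductive Gen
  | l
  | k
  | a
  | b
  | c
  | d
  | e
  | f
  | h
  deriving DecidableEq

abbrev l : FreeGroup Gen := FreeGroup.of Gen.l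
abbrev k : FreeGroup Gen := FreeGroup.of Gen.k
abbrev a : FreeGroup Gen := FreeGroup.of Gen.a
abbrev b : FreeGroup Gen := FreeGroup.of Gen.b
abbrev c : FreeGroup Gen := FreeGroup.of Gen.c
abbrev d : FreeGroup Gen := FreeGroup.of Gen.d
abbrev e : FreeGroup Gen := FreeGroup.of Gen.e
abbrev f : FreeGroup Gen := FreeGroup.of Gen.f
abbrev h : FreeGroup Gen := FreeGroup.of Gen.h

def edges : List (Gen × ℕ × Gen) :=
  [(.l, 3, .k), (.k, 3, .a), (.a, 3, .b), (.b, 3, .c), (.c, 3, .d), (.d, 3, .e), (.d, 3, .h), (.e, 3, .f)]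

def extra : List (FreeGroup Gen) := [l * (((a * b * c * d * e * f * h) ^ 9)⁻¹)]

end E8h

namespace WE7

inductive Gen
  | a
  | b
  | c
  | d
  | e
  | f
  | h
  deriving DecidableEq

abbrev a : FreeGroup Gen := FreeGroup.of Gen.a
abbrev b : FreeGroup Gen := FreeGroup.of Gen.b
abbrev c : FreeGroup Gen := FreeGroup.of Gen.c
abbrev d : FreeGroup Gen := FreeGroup.of Gen.d
abbrev e : FreeGroup Gen := FreeGroup.of Gen.e
abbrev f : FreeGroup Gen := FreeGroup.of Gen.f
abbrev h : FreeGroup Gen := FreeGroup.of Gen.h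

def edges : List (Gen × ℕ × Gen) :=
  [(.a, 3, .b), (.b, 3, .c), (.c, 3, .d), (.d, 3, .e), (.d, 3, .h), (.e, 3, .f)]

def extra : List (FreeGroup Gen) := []

end WE7

end Cfsg.Agent.Helper17.Fi24Sp
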