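import Cfsg.Agent.Helper17.Fi24Sp.OrbData

set_option autoImplicit false
set_option linter.all false
set_option maxRecDepth 1000000
set_option maxHeartbeats 0

namespace Cfsg.Agent.Helper17.Fi24Sp

open Cfsg.Agent.Helper19.TCS Cfsg.Agent.Helper17.OrbCert

theorem okP0 : OKP (0 * 8000) 8000 := by decide +kernel
theorem okP1 : OKP (1 * 8000) 8000 := by decide +kernel
theorem okP2 : OKP (2 * 8000) 8000 := by decide +kernel
theorem okP3 : OKP (3 * 8000) 8000 := by decide +kernel
theorem okP4 : OKP (4 * 8000) 8000 := by decide +kernel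
theorem okP5 : OKP (5 * 8000) 8000 := by decide +kernel
theorem okP6 : OKP (6 * 8000) 8000 := by decide +kernel
theorem okP7 : OKP (7 * 8000) 8000 := by decide +kernel
theorem okP8 : OKP (8 * 8000) 8000 := by decide +kernel
theorem okP9 : OKP (9 * 8000) 8000 := by decide +kernel

end Cfsg.Agent.Helper17.Fi24Sp
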