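import Cfsg.Agent.Helper17.Fi24Sp.OrbData

set_option autoImplicit false
set_option linter.all false
set_option maxRecDepth 1000000
set_option maxHeartbeats 0

namespace Cfsg.Agent.Helper17.Fi24Sp

open Cfsg.Agent.Helper19.TCS Cfsg.Agent.Helper17.OrbCert

theorem okP10 : OKP (10 * 8000) 8000 := by decide +kernel
theorem okP11 : OKP (11 * 8000) 8000 := by decide +kernel
theorem okP12 : OKP (12 * 8000) 8000 := by decide +kernel
theorem okP13 : OKP (13 * 8000) 8000 := by decide +kernel
theorem okP14 : OKP (14 * 8000) 8000 := by decide +kernel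
theorem okP15 : OKP (15 * 8000) 8000 := by decide +kernel
theorem okP16 : OKP (16 * 8000) 8000 := by decide +kernel
theorem okP17 : OKP (17 * 8000) 8000 := by decide +kernel
theorem okP18 : OKP (18 * 8000) 8000 := by decide +kernel
theorem okP19 : OKP (19 * 8000) 8000 := by decide +kernel

end Cfsg.Agent.Helper17.Fi24Sp
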