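import Cfsg.Agent.Helper17.Fi24Sp.OrbData

set_option autoImplicit false
set_option linter.all false
set_option maxRecDepth 1000000
set_option maxHeartbeats 0

namespace Cfsg.Agent.Helper17.Fi24Sp

open Cfsg.Agent.Helper19.TCS Cfsg.Agent.Helper17.OrbCert

theorem okP20 : OKP (20 * 8000) 8000 := by decide +kernel
theorem okP21 : OKP (21 * 8000) 8000 := by decide +kernel
theorem okP22 : OKP (22 * 8000) 8000 := by decide +kernel
theorem okP23 : OKP (23 * 8000) 8000 := by decide +kernel
theorem okP24 : OKP (24 * 8000) 8000 := by decide +kernel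
theorem okP25 : OKP (25 * 8000) 8000 := by decide +kernel
theorem okP26 : OKP (26 * 8000) 8000 := by decide +kernel
theorem okP27 : OKP (27 * 8000) 8000 := by decide +kernel
theorem okP28 : OKP (28 * 8000) 8000 := by decide +kernel
theorem okP29 : OKP (29 * 8000) 8000 := by decide +kernel

end Cfsg.Agent.Helper17.Fi24Sp
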