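import Cfsg.Agent.Helper17.Fi24Sp.OrbData

set_option autoImplicit false
set_option linter.all false
set_option maxRecDepth 1000000
set_option maxHeartbeats 0

namespace Cfsg.Agent.Helper17.Fi24Sp

open Cfsg.Agent.Helper19.TCS Cfsg.Agent.Helper17.OrbCert

theorem okP30 : OKP (30 * 8000) 8000 := by decide +kernel
theorem okP31 : OKP (31 * 8000) 8000 := by decide +kernel
theorem okP32 : OKP (32 * 8000) 8000 := by decide +kernel
theorem okP33 : OKP (33 * 8000) 8000 := by decide +kernel
theorem okP34 : OKP (34 * 8000) 8000 := by decide +kernel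
theorem okP35 : OKP (35 * 8000) 8000 := by decide +kernel
theorem okP36 : OKP (36 * 8000) 8000 := by decide +kernel
theorem okP37 : OKP (37 * 8000) 8000 := by decide +kernel
theorem okP38 : OKP (38 * 8000) 8000 := by decide +kernel

end Cfsg.Agent.Helper17.Fi24Sp
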