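import Mathlib
import Cfsg.Agent.Helper17.OrbCert.Sound
import Cfsg.Agent.Helper17.Fi24Sp.OrbChk0
import Cfsg.Agent.Helper17.Fi24Sp.OrbChk1
import Cfsg.Agent.Helper17.Fi24Sp.OrbChk2
import Cfsg.Agent.Helper17.Fi24Sp.OrbChk3

set_option autoImplicit false
set_option linter.all false
set_option maxRecDepth 1000000
set_option maxHeartbeats 0

namespace Cfsg.Agent.Helper17.Fi24Sp

open Cfsg.Agent.Helper19.TCS Cfsg.Agent.Helper17.OrbCert

theorem okP_all : ∀ p, p < 39 → OKP (p * 8000) 8000 := by
  intro p hp
  interval_cases p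
  · exact okP0
  · exact okP1
  · exact okP2
  · exact okP3
  · exact okP4
  · exact okP5
  · exact okP6
  · exact okP7
  · exact okP8
  · exact okP9
  · exact okP10
  · exact okP11
  · exact okP12
  · exact okP13
  · exact okP14
  · exact okP15
  · exact okP16
  · exact okP17
  · exact okP18
  · exact okP19
  · exact okP20
  · exact okP21
  · exact okP22
  · exact okP23
  · exact okP24
  · exact okP25
  · exact okP26
  · exact okP27
  · exact okP28
  · exact okP29
  · exact okP30
  · exact okP31
  · exact okP32
  · exact okP33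
  · exact okP34
  · exact okP35
  · exact okP36
  · exact okP37
  · exact okP38

theorem okPt_all : ∀ i, i < 306936 → OKPt i := by
  intro i hi
  have hp : i / 8000 < 39 := by omega
  have h1 : i / 8000 * 8000 ≤ i := Nat.div_mul_le_self i 8000
  have h2 : i < i / 8000 * 8000 + 8000 := by omega
  exact okPts_spec (i / 8000 * 8000) 8000 (okP_all (i / 8000) hp) i h1 h2 hi

end Cfsg.Agent.Helper17.Fi24Sp
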