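import Mathlib
import Cfsg.Agent.Helper17.SP6TC.Perm
import Cfsg.Agent.Helper17.E8hTC.Perm
import Cfsg.Agent.Helper17.WE7TC.Perm
import Cfsg.Agent.Helper17.FiQ3TC.Perm
import Cfsg.Agent.Helper17.FiQ4TC.Perm

set_option autoImplicit false
set_option linter.all false

noncomputable section

namespace Cfsg.Agent.Helper17.Fi24Sp

open Cfsg.Spor Cfsg.Agent.Helper17.FiSub Cfsg.Agent.Helper17.Fi24Sp

theorem card_dvd_step' {P G : Type*} [Group P] [Group G] (φ : P →* G) (H : Subgroup G)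
    (hH : H = φ.range) (K : Subgroup P) (n m : ℕ) (hidx : K.index = n) (hK : Nat.card K ∣ m) :
    Nat.card H ∣ n * m := by
  subst hH
  have h1 : Nat.card φ.range ∣ Nat.card P := Subgroup.card_range_dvd φ
  have h2 : Nat.card K * K.index = Nat.card P := Subgroup.card_mul_index K
  rw [← h2, hidx, mul_comm] at h1
  exact h1.trans (Nat.mul_dvd_mul_left n hK)

/-! ### level 1 : E8h → SP6 -/

def emb1 : E8h.Gen → SP6.Gen
  | .l => .l
  | .k => .k
  | .a => .a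
  | .b => .b
  | .c => .c
  | .d => .d
  | .e => .e
  | .f => .f
  | .h => .h

def f1 (x : E8h.Gen) : SP6TC.G := PresentedGroup.of (emb1 x)

theorem lab1 (x y : E8h.Gen) :
    coxLabel E8h.edges x y = coxLabel SP6.edges (emb1 x) (emb1 y) := by
  cases x <;> cases y <;> decide

theorem rel1 : ∀ r ∈ E8hTC.Rels, FreeGroup.lift f1 r = 1 := by
  intro r hr
  rcases hr with ⟨x, _, y, _, rfl⟩ | hr
  · rw [map_pow, map_mul, FreeGroup.lift_apply_of, FreeGroup.lift_apply_of, lab1]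
    exact SP6TC.cox (emb1 x) (emb1 y)
  · simp only [Set.mem_setOf_eq, E8h.extra, List.mem_cons, List.mem_singleton, List.not_mem_nil,
      or_false] at hr
    rcases hr with rfl
    · have h := SP6TC.extra_one (r := SP6.l * (((SP6.a * SP6.b * SP6.c * SP6.d * SP6.e * SP6.f * SP6.h) ^ 9)⁻¹)) (by simp [SP6.extra])
      simpa [f1, emb1, SP6TC.mk_of] using h

def phi1 : E8hTC.G →* SP6TC.G := PresentedGroup.toGroup rel1

theorem phi1_of (x : E8h.Gen) : phi1 (PresentedGroup.of x) = f1 x :=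
  PresentedGroup.toGroup.of rel1

theorem range1 : SP6TC.Hs = phi1.range := by
  have h1 : phi1.range = Subgroup.closure (Set.range f1) := by
    rw [MonoidHom.range_eq_map, ← PresentedGroup.closure_range_of, MonoidHom.map_closure]
    congr 1
    ext g
    constructor
    · rintro ⟨_, ⟨x, rfl⟩, rfl⟩; exact ⟨x, (phi1_of x).symm⟩
    · rintro ⟨x, rfl⟩; exact ⟨_, ⟨x, rfl⟩, phi1_of x⟩
  rw [h1, SP6TC.Hs, MonoidHom.map_closure]
  congr 1
  ext g
  constructor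
  · rintro ⟨s, hs, rfl⟩
    simp only [Set.mem_insert_iff, Set.mem_singleton_iff] at hs
    rcases hs with rfl | rfl | rfl | rfl | rfl | rfl | rfl | rfl | rfl
    · exact ⟨.l, rfl⟩
    · exact ⟨.k, rfl⟩
    · exact ⟨.a, rfl⟩
    · exact ⟨.b, rfl⟩
    · exact ⟨.c, rfl⟩
    · exact ⟨.d, rfl⟩
    · exact ⟨.e, rfl⟩
    · exact ⟨.f, rfl⟩
    · exact ⟨.h, rfl⟩
  · rintro ⟨x, rfl⟩
    cases x
    · exact ⟨SP6.l, by simp, rfl⟩
    · exact ⟨SP6.k, by simp, rfl⟩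
    · exact ⟨SP6.a, by simp, rfl⟩
    · exact ⟨SP6.b, by simp, rfl⟩
    · exact ⟨SP6.c, by simp, rfl⟩
    · exact ⟨SP6.d, by simp, rfl⟩
    · exact ⟨SP6.e, by simp, rfl⟩
    · exact ⟨SP6.f, by simp, rfl⟩
    · exact ⟨SP6.h, by simp, rfl⟩

/-! ### level 2 : WE7 → E8h -/

def emb2 : WE7.Gen → E8h.Gen
  | .a => .a
  | .b => .b
  | .c => .c
  | .d => .d
  | .e => .e
  | .f => .f
  | .h => .h

def f2 (x : WE7.Gen) : E8hTC.G := PresentedGroup.of (emb2 x)

theorem lab2 (x y : WE7.Gen) :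
    coxLabel WE7.edges x y = coxLabel E8h.edges (emb2 x) (emb2 y) := by
  cases x <;> cases y <;> decide

theorem rel2 : ∀ r ∈ WE7TC.Rels, FreeGroup.lift f2 r = 1 := by
  intro r hr
  rcases hr with ⟨x, _, y, _, rfl⟩ | hr
  · rw [map_pow, map_mul, FreeGroup.lift_apply_of, FreeGroup.lift_apply_of, lab2]
    exact E8hTC.cox (emb2 x) (emb2 y)
  · simp [WE7.extra] at hr

def phi2 : WE7TC.G →* E8hTC.G := PresentedGroup.toGroup rel2

theorem phi2_of (x : WE7.Gen) : phi2 (PresentedGroup.of x) = f2 x :=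
  PresentedGroup.toGroup.of rel2

theorem range2 : E8hTC.Hs = phi2.range := by
  have h1 : phi2.range = Subgroup.closure (Set.range f2) := by
    rw [MonoidHom.range_eq_map, ← PresentedGroup.closure_range_of, MonoidHom.map_closure]
    congr 1
    ext g
    constructor
    · rintro ⟨_, ⟨x, rfl⟩, rfl⟩; exact ⟨x, (phi2_of x).symm⟩
    · rintro ⟨x, rfl⟩; exact ⟨_, ⟨x, rfl⟩, phi2_of x⟩
  rw [h1, E8hTC.Hs, MonoidHom.map_closure]
  congr 1
  ext g
  constructor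
  · rintro ⟨s, hs, rfl⟩
    simp only [Set.mem_insert_iff, Set.mem_singleton_iff] at hs
    rcases hs with rfl | rfl | rfl | rfl | rfl | rfl | rfl
    · exact ⟨.a, rfl⟩
    · exact ⟨.b, rfl⟩
    · exact ⟨.c, rfl⟩
    · exact ⟨.d, rfl⟩
    · exact ⟨.e, rfl⟩
    · exact ⟨.f, rfl⟩
    · exact ⟨.h, rfl⟩
  · rintro ⟨x, rfl⟩
    cases x
    · exact ⟨E8h.a, by simp, rfl⟩
    · exact ⟨E8h.b, by simp, rfl⟩
    · exact ⟨E8h.c, by simp, rfl⟩
    · exact ⟨E8h.d, by simp, rfl⟩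
    · exact ⟨E8h.e, by simp, rfl⟩
    · exact ⟨E8h.f, by simp, rfl⟩
    · exact ⟨E8h.h, by simp, rfl⟩

/-! ### level 3 : FiQ3 → WE7 -/

def emb3 : FiQ3.Gen → WE7.Gen
  | .b => .b
  | .c => .c
  | .d => .d
  | .e => .e
  | .f => .f
  | .h => .h

def f3 (x : FiQ3.Gen) : WE7TC.G := PresentedGroup.of (emb3 x)

theorem lab3 (x y : FiQ3.Gen) :
    coxLabel FiQ3.edges x y = coxLabel WE7.edges (emb3 x) (emb3 y) := by
  cases x <;> cases y <;> decide

theorem rel3 : ∀ r ∈ FiQ3TC.Rels, FreeGroup.lift f3 r = 1 := by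
  intro r hr
  rcases hr with ⟨x, _, y, _, rfl⟩ | hr
  · rw [map_pow, map_mul, FreeGroup.lift_apply_of, FreeGroup.lift_apply_of, lab3]
    exact WE7TC.cox (emb3 x) (emb3 y)
  · simp [FiQ3.extra] at hr

def phi3 : FiQ3TC.G →* WE7TC.G := PresentedGroup.toGroup rel3

theorem phi3_of (x : FiQ3.Gen) : phi3 (PresentedGroup.of x) = f3 x :=
  PresentedGroup.toGroup.of rel3

theorem range3 : WE7TC.Hs = phi3.range := by
  have h1 : phi3.range = Subgroup.closure (Set.range f3) := by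
    rw [MonoidHom.range_eq_map, ← PresentedGroup.closure_range_of, MonoidHom.map_closure]
    congr 1
    ext g
    constructor
    · rintro ⟨_, ⟨x, rfl⟩, rfl⟩; exact ⟨x, (phi3_of x).symm⟩
    · rintro ⟨x, rfl⟩; exact ⟨_, ⟨x, rfl⟩, phi3_of x⟩
  rw [h1, WE7TC.Hs, MonoidHom.map_closure]
  congr 1
  ext g
  constructor
  · rintro ⟨s, hs, rfl⟩
    simp only [Set.mem_insert_iff, Set.mem_singleton_iff] at hs
    rcases hs with rfl | rfl | rfl | rfl | rfl | rfl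
    · exact ⟨.b, rfl⟩
    · exact ⟨.c, rfl⟩
    · exact ⟨.d, rfl⟩
    · exact ⟨.e, rfl⟩
    · exact ⟨.f, rfl⟩
    · exact ⟨.h, rfl⟩
  · rintro ⟨x, rfl⟩
    cases x
    · exact ⟨WE7.b, by simp, rfl⟩
    · exact ⟨WE7.c, by simp, rfl⟩
    · exact ⟨WE7.d, by simp, rfl⟩
    · exact ⟨WE7.e, by simp, rfl⟩
    · exact ⟨WE7.f, by simp, rfl⟩
    · exact ⟨WE7.h, by simp, rfl⟩

/-! ### level 4 : FiQ4 → FiQ3 -/

def emb4 : FiQ4.Gen → FiQ3.Gen
  | .c => .c
  | .d => .d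
  | .e => .e
  | .f => .f

def f4 (x : FiQ4.Gen) : FiQ3TC.G := PresentedGroup.of (emb4 x)

theorem lab4 (x y : FiQ4.Gen) :
    coxLabel FiQ4.edges x y = coxLabel FiQ3.edges (emb4 x) (emb4 y) := by
  cases x <;> cases y <;> decide

theorem rel4 : ∀ r ∈ FiQ4TC.Rels, FreeGroup.lift f4 r = 1 := by
  intro r hr
  rcases hr with ⟨x, _, y, _, rfl⟩ | hr
  · rw [map_pow, map_mul, FreeGroup.lift_apply_of, FreeGroup.lift_apply_of, lab4]
    exact FiQ3TC.cox (emb4 x) (emb4 y)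
  · simp [FiQ4.extra] at hr

def phi4 : FiQ4TC.G →* FiQ3TC.G := PresentedGroup.toGroup rel4

theorem phi4_of (x : FiQ4.Gen) : phi4 (PresentedGroup.of x) = f4 x :=
  PresentedGroup.toGroup.of rel4

theorem range4 : FiQ3TC.Hs = phi4.range := by
  have h1 : phi4.range = Subgroup.closure (Set.range f4) := by
    rw [MonoidHom.range_eq_map, ← PresentedGroup.closure_range_of, MonoidHom.map_closure]
    congr 1
    ext g
    constructor
    · rintro ⟨_, ⟨x, rfl⟩, rfl⟩; exact ⟨x, (phi4_of x).symm⟩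
    · rintro ⟨x, rfl⟩; exact ⟨_, ⟨x, rfl⟩, phi4_of x⟩
  rw [h1, FiQ3TC.Hs, MonoidHom.map_closure]
  congr 1
  ext g
  constructor
  · rintro ⟨s, hs, rfl⟩
    simp only [Set.mem_insert_iff, Set.mem_singleton_iff] at hs
    rcases hs with rfl | rfl | rfl | rfl
    · exact ⟨.c, rfl⟩
    · exact ⟨.d, rfl⟩
    · exact ⟨.e, rfl⟩
    · exact ⟨.f, rfl⟩
  · rintro ⟨x, rfl⟩
    cases x
    · exact ⟨FiQ3.c, by simp, rfl⟩
    · exact ⟨FiQ3.d, by simp, rfl⟩
    · exact ⟨FiQ3.e, by simp, rfl⟩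
    · exact ⟨FiQ3.f, by simp, rfl⟩

/-! ### bottom -/

theorem card_bot : Nat.card FiQ4TC.Hs ∣ 2 := by
  have h : FiQ4TC.Hs = Subgroup.zpowers (FiQ4TC.gG 0) := by
    rw [FiQ4TC.Hs, MonoidHom.map_closure, Set.image_singleton, Subgroup.zpowers_eq_closure]
    rfl
  rw [h, Nat.card_zpowers]
  apply orderOf_dvd_of_pow_eq_one
  rw [pow_two]
  exact FiQ4TC.gG_mul_self 0

theorem idxL1 : E8hTC.Hs.index = 120 := by
  rw [Subgroup.index_eq_card]; exact E8hTC.card_Q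

theorem idxL2 : WE7TC.Hs.index = 56 := by
  rw [Subgroup.index_eq_card]; exact WE7TC.card_Q

theorem idxL3 : FiQ3TC.Hs.index = 432 := by
  rw [Subgroup.index_eq_card]; exact FiQ3TC.card_Q

theorem idxL4 : FiQ4TC.Hs.index = 60 := by
  rw [Subgroup.index_eq_card]; exact FiQ4TC.card_Q

theorem idxTop : SP6TC.Hs.index = 28431 := by
  rw [Subgroup.index_eq_card]; exact SP6TC.card_Q

theorem card_Hs_dvd : Nat.card SP6TC.Hs ∣ 348364800 := by
  have h4 := card_dvd_step' phi4 FiQ3TC.Hs range4 FiQ4TC.Hs 60 _ idxL4 card_bot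
  have h3 := card_dvd_step' phi3 WE7TC.Hs range3 FiQ3TC.Hs 432 _ idxL3 h4
  have h2 := card_dvd_step' phi2 E8hTC.Hs range2 WE7TC.Hs 56 _ idxL2 h3
  have h1 := card_dvd_step' phi1 SP6TC.Hs range1 E8hTC.Hs 120 _ idxL1 h2
  exact h1

theorem card_G_eq : Nat.card SP6TC.G = Nat.card SP6TC.Hs * 28431 := by
  rw [← idxTop, Subgroup.card_mul_index]

theorem card_G_dvd : Nat.card SP6TC.G ∣ 9904359628800 := by
  rw [card_G_eq]
  exact (Nat.mul_dvd_mul_right card_Hs_dvd 28431).trans (by norm_num)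

end Cfsg.Agent.Helper17.Fi24Sp
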