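import Mathlib
import Cfsg.Agent.Helper17.Fi24Sp.Upper
import Cfsg.Agent.Helper17.HeCent.Gen

/-! The spider relation `(d c b d e f d h i)^10 = 1` holds in the presented group `SP6`
(the `Y₅₂₂` sub-diagram of the `Fi₂₄` presentation with `l = (a b c d e f h)^9`): the spider word fixes
the coset of `⟨l,k,a,b,c,d,e,f,h⟩` and a base of the (faithful) action of that subgroup on the 28431
cosets; faithfulness comes from `|⟨l,…,h⟩| ≤ 348364800` (chain of coset enumerations) and a chain of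
parabolic subgroups with orbit lengths `960·84·18·2·5·4·3·2 = 348364800`. -/

set_option autoImplicit false
set_option linter.all false
set_option maxRecDepth 100000

noncomputable section

namespace Cfsg.Agent.Helper17.Fi24Sp

open Cfsg.Spor Cfsg.Agent.Helper17 Cfsg.Agent.Helper17.SP6TC Cfsg.Agent.Helper17.HeCent

theorem finG : Finite G := by
  apply Nat.finite_of_card_ne_zero
  intro h
  have := card_G_dvd
  rw [h] at this
  norm_num at this

theorem phi_prodw (w : List ℕ) (h : ∀ l ∈ w, l < nl) : phi (prodw w) = permw w := by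
  induction w with
  | nil => simp [prodw, permw]
  | cons l w ih =>
    rw [prodw, permw, map_mul, phi_gG (h l (List.mem_cons_self ..)),
      ih (fun x hx => h x (List.mem_cons_of_mem _ hx))]

theorem phi_prodw_apply (w : List ℕ) (h : ∀ l ∈ w, l < nl) (i : ℕ) :
    phi (prodw w) i = evalw w i := by
  rw [phi_prodw w h, permw_apply]

theorem stab0 {g : G} : phi g 0 = 0 ↔ g ∈ Hs := by
  constructor
  · intro h
    have h1 : psiQ (g • n0) = psiQ n0 := by
      unfold psiQ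
      rw [TCG.psi_smul]
      have h0 := psi_n0
      unfold psiQ at h0
      rw [h0, h]
    have h2 := psi_inj h1
    unfold n0 at h2
    rw [MulAction.Quotient.smul_mk, QuotientGroup.eq] at h2
    simpa using Hs.inv_mem h2
  · intro h
    exact hH g h

theorem gG_mem_Hs {l : ℕ} (hl : l < 9) : gG l ∈ Hs := by
  interval_cases l
  · exact Subgroup.mem_map_of_mem _ (Subgroup.subset_closure (by simp : SP6.l ∈ _))
  · exact Subgroup.mem_map_of_mem _ (Subgroup.subset_closure (by simp : SP6.k ∈ _))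
  · exact Subgroup.mem_map_of_mem _ (Subgroup.subset_closure (by simp : SP6.a ∈ _))
  · exact Subgroup.mem_map_of_mem _ (Subgroup.subset_closure (by simp : SP6.b ∈ _))
  · exact Subgroup.mem_map_of_mem _ (Subgroup.subset_closure (by simp : SP6.c ∈ _))
  · exact Subgroup.mem_map_of_mem _ (Subgroup.subset_closure (by simp : SP6.d ∈ _))
  · exact Subgroup.mem_map_of_mem _ (Subgroup.subset_closure (by simp : SP6.e ∈ _))
  · exact Subgroup.mem_map_of_mem _ (Subgroup.subset_closure (by simp : SP6.f ∈ _))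
  · exact Subgroup.mem_map_of_mem _ (Subgroup.subset_closure (by simp : SP6.h ∈ _))

/-- pointwise stabilisers, inside `Hs`, of lists of points. -/
def KS : List ℕ → Subgroup G
  | [] => Hs
  | b :: bs => KS bs ⊓ stabG phi b

theorem mem_KS {bs : List ℕ} {g : G} : g ∈ KS bs ↔ g ∈ Hs ∧ ∀ b ∈ bs, phi g b = b := by
  induction bs with
  | nil => simp [KS]
  | cons b bs ih =>
    rw [KS, Subgroup.mem_inf, ih, mem_stabG]
    simp only [List.mem_cons, forall_eq_or_imp]
    tauto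

/-! ### tree certificates with single letters as edges -/

def chkT (L : List ℕ) : List (ℕ × ℕ × ℕ) → List ℕ → Bool
  | [], _ => true
  | (p, q, l) :: t, seen =>
    L.contains l && seen.contains q && (sg l q == p) && chkT L t (p :: seen)

def treePts : List (ℕ × ℕ × ℕ) → List ℕ → List ℕ
  | [], seen => seen
  | (p, _, _) :: t, seen => treePts t (p :: seen)

def lettersOK (L bs : List ℕ) : Bool :=
  L.all fun l => decide (l < 9) && bs.all fun b => sg l b == b

theorem letter_mem {L bs : List ℕ} (h : lettersOK L bs = true) {l : ℕ} (hl : l ∈ L) :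
    gG l ∈ KS bs ∧ l < nl := by
  simp only [lettersOK, List.all_eq_true, Bool.and_eq_true, decide_eq_true_eq, beq_iff_eq] at h
  obtain ⟨h1, h2⟩ := h l hl
  have hnl : l < nl := lt_of_lt_of_le h1 (by decide)
  refine ⟨?_, hnl⟩
  rw [mem_KS]
  refine ⟨gG_mem_Hs h1, ?_⟩
  intro b hb
  rw [phi_gG hnl, σ_apply]
  exact h2 b hb

theorem reach_of_chkT {L bs : List ℕ} (hL : lettersOK L bs = true) (β : ℕ) :
    ∀ (t : List (ℕ × ℕ × ℕ)) (seen : List ℕ),
      (∀ p ∈ seen, ∃ g ∈ KS bs, phi g β = p) → chkT L t seen = true →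
      ∀ p ∈ treePts t seen, ∃ g ∈ KS bs, phi g β = p := by
  intro t
  induction t with
  | nil => intro seen hs _ p hp; exact hs p hp
  | cons x t ih =>
    obtain ⟨p, q, l⟩ := x
    intro seen hs hc
    simp only [chkT, Bool.and_eq_true, List.contains_iff_mem, beq_iff_eq] at hc
    obtain ⟨⟨⟨hl, hq⟩, he⟩, ht⟩ := hc
    apply ih (p :: seen) _ ht
    intro p' hp'
    rcases List.mem_cons.mp hp' with rfl | hp'
    · obtain ⟨g, hg, hgq⟩ := hs q hq
      obtain ⟨hm, hnl⟩ := letter_mem hL hl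
      refine ⟨gG l * g, (KS bs).mul_mem hm hg, ?_⟩
      rw [map_mul, Equiv.Perm.mul_apply, hgq, phi_gG hnl, σ_apply, he]
    · exact hs p' hp'

theorem levelS {L bs : List ℕ} (hL : lettersOK L bs = true) (β : ℕ)
    (T : List (ℕ × ℕ × ℕ)) (hT : chkT L T [β] = true) (n : ℕ)
    (hn : (treePts T [β]).toFinset.card = n) :
    n * Nat.card ↥(KS (β :: bs)) ≤ Nat.card ↥(KS bs) := by
  haveI := finG
  rw [← hn]
  show _ * Nat.card ↥(KS bs ⊓ stabG phi β) ≤ _
  apply step_gen phi (KS bs) β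
  intro p hp
  rw [List.mem_toFinset] at hp
  refine reach_of_chkT hL β T [β] ?_ hT p hp
  intro p hp
  rw [List.mem_singleton] at hp
  subst hp
  exact ⟨1, (KS bs).one_mem, by simp⟩

def LL1 : List ℕ := [0, 1, 2, 3, 4, 5, 6, 7, 8]

def TS1 : List (ℕ × ℕ × ℕ) :=
  [(2, 1, 8), (3, 2, 5), (4, 3, 4), (5, 3, 6), (6, 4, 3), (7, 4, 6), (8, 5, 7), (9, 6, 2), (10, 6, 6), (11, 7, 5), (12, 7, 7), (13, 9, 1), (14, 9, 6), (15, 10, 5), (16, 10, 7), (17, 11, 7), (18, 11, 8), (19, 13, 0), (20, 13, 6), (21, 14, 5), (22, 14, 7), (23, 15, 4), (24, 15, 7), (25, 15, 8), (26, 17, 6), (27, 17, 8), (29, 19, 6), (30, 20, 5), (31, 20, 7), (32, 21, 4), (33, 21, 7), (34, 21, 8), (35, 23, 7), (36, 23, 8), (37, 24, 6), (38, 24, 8), (40, 26, 8), (42, 29, 5), (43, 29, 7), (44, 30, 4), (45, 30, 7), (46, 30, 8), (47, 32, 3), (48, 32, 7), (49, 32, 8), (50, 33, 6), (51, 33, 8), (53, 35, 6), (54, 35, 8), (55, 36, 5), (57, 37, 8), (59, 40, 5), (61, 42, 4), (62, 42, 7),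 (63, 42, 8), (64, 44, 3), (65, 44, 7), (66, 44, 8), (67, 45, 6), (68, 45, 8), (70, 47, 7), (71, 47, 8), (72, 48, 6), (73, 48, 8), (74, 49, 5), (76, 50, 8), (78, 53, 5), (79, 53, 8), (80, 54, 5), (82, 55, 6), (84, 57, 5), (86, 59, 4), (88, 61, 3), (89, 61, 7), (90, 61, 8), (91, 62, 6), (92, 62, 8), (94, 64, 2), (95, 64, 7), (96, 64, 8), (97, 65, 6), (98, 65, 8), (99, 66, 5), (101, 67, 8), (103, 70, 6), (104, 70, 8), (105, 71, 5), (107, 72, 5), (108, 72, 8), (109, 73, 5), (111, 74, 6), (113, 76, 5), (115, 78, 8), (116, 79, 5), (118, 80, 6), (120, 82, 7), (123, 84, 4), (125, 86, 3), (128, 88, 2), (129, 88, 7), (130, 88, 8), (131, 89, 6), (132, 89, 8), (133, 90, 5), (135, 91, 8), (137, 94, 7), (138, 94, 8), (139, 95, 6), (140, 95, 8), (141, 96, 5), (143, 97, 5), (144, 97, 8), (145, 98, 5), (147, 99, 6), (149, 101, 5), (151, 103, 5), (152, 103, 8), (153, 104, 5), (155, 105, 4), (156, 105, 6), (158, 107, 8), (159, 108, 5), (161, 109, 6),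 (163, 111, 7), (166, 113, 4), (168, 115, 5), (170, 116, 4), (171, 116, 6), (173, 118, 7), (178, 123, 3), (181, 125, 2), (184, 128, 1), (185, 128, 7), (186, 128, 8), (187, 129, 6), (188, 129, 8), (189, 130, 5), (191, 131, 5), (192, 131, 8), (193, 132, 5), (195, 133, 6), (197, 135, 5), (199, 137, 6), (200, 137, 8), (201, 138, 5), (203, 139, 5), (204, 139, 8), (205, 140, 5), (207, 141, 4), (208, 141, 6), (210, 143, 8), (211, 144, 5), (213, 145, 6), (215, 147, 7), (218, 149, 4), (220, 151, 4), (221, 151, 8), (222, 152, 5), (224, 153, 4), (225, 153, 6), (227, 155, 6), (229, 156, 7), (232, 158, 5), (234, 159, 4), (235, 159, 6), (237, 161, 7), (242, 166, 3), (245, 168, 4), (246, 168, 6), (248, 170, 3), (249, 170, 6), (251, 171, 7), (258, 178, 2), (261, 181, 1), (265, 184, 7), (266, 184, 8), (267, 185, 6), (268, 185, 8), (269, 186, 5), (271, 187, 5), (272, 187, 8), (273, 188, 5), (275, 189, 4), (276, 189, 6), (278, 191, 8), (279, 192, 5), (281,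 193, 6), (283, 195, 7), (286, 197, 4), (288, 199, 5), (289, 199, 8), (290, 200, 5), (293, 203, 4), (294, 203, 8), (295, 204, 5), (297, 205, 4), (298, 205, 6), (301, 208, 7), (304, 210, 5), (306, 211, 4), (307, 211, 6), (309, 213, 7), (314, 218, 3), (317, 220, 8), (318, 221, 5), (320, 222, 4), (321, 222, 6), (323, 224, 6), (325, 225, 7), (328, 227, 7), (333, 232, 4), (334, 232, 6), (336, 234, 3), (337, 234, 6), (339, 235, 7), (346, 242, 2), (349, 245, 3), (350, 245, 6), (352, 246, 7), (355, 248, 2), (356, 248, 6), (358, 249, 7), (367, 258, 1), (371, 261, 0), (376, 265, 6), (377, 265, 8), (379, 267, 5), (380, 267, 8), (381, 268, 5), (384, 271, 4), (385, 271, 8), (386, 272, 5), (388, 273, 4), (389, 273, 6), (392, 276, 7), (395, 278, 5), (397, 279, 4), (398, 279, 6), (400, 281, 7), (405, 286, 3), (408, 288, 4), (409, 288, 8), (410, 289, 5), (412, 290, 6), (415, 293, 8), (416, 294, 5), (418, 295, 4), (419, 295, 6), (421, 297, 6), (423, 298,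 7), (429, 304, 4), (430, 304, 6), (432, 306, 3), (433, 306, 6), (435, 307, 7), (442, 314, 2), (445, 317, 5), (447, 318, 4), (448, 318, 6), (450, 320, 3), (451, 320, 6), (453, 321, 7), (456, 323, 5), (457, 323, 7), (467, 333, 3), (468, 333, 6), (470, 334, 7), (473, 336, 2), (474, 336, 6), (476, 337, 7), (485, 346, 1), (489, 349, 2), (490, 349, 6), (492, 350, 5), (493, 350, 7), (498, 355, 1), (499, 355, 6), (501, 356, 7), (514, 367, 0), (522, 376, 5), (523, 376, 8), (525, 379, 4), (526, 379, 8), (527, 380, 5), (529, 381, 6), (532, 384, 8), (533, 385, 5), (535, 386, 4), (536, 386, 6), (538, 388, 6), (540, 389, 7), (546, 395, 4), (547, 395, 6), (549, 397, 3), (550, 397, 6), (552, 398, 7), (559, 405, 2), (562, 408, 3), (563, 408, 8), (564, 409, 5), (566, 410, 4), (567, 410, 6), (571, 415, 5), (573, 416, 4), (574, 416, 6), (576, 418, 3), (577, 418, 6), (579, 419, 7), (582, 421, 5), (590, 429, 3), (591, 429, 6), (593, 430, 7), (596, 432, 2),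 (597, 432, 6), (599, 433, 7), (608, 442, 1), (612, 445, 4), (613, 445, 6), (615, 447, 3), (616, 447, 6), (618, 448, 7), (621, 450, 2), (622, 450, 6), (624, 451, 5), (625, 451, 7), (630, 456, 7), (631, 456, 8), (640, 467, 2), (641, 467, 6), (643, 468, 5), (644, 468, 7), (649, 473, 1), (650, 473, 6), (652, 474, 7), (664, 485, 0), (669, 489, 1), (670, 489, 6), (672, 490, 5), (673, 490, 7), (676, 492, 7), (683, 498, 0), (684, 498, 6), (686, 499, 7), (705, 522, 4), (706, 522, 8), (707, 523, 5), (709, 525, 3), (710, 525, 8), (711, 526, 5), (713, 527, 4), (714, 527, 6), (718, 532, 5), (720, 533, 4), (721, 533, 6), (723, 535, 3), (724, 535, 6), (726, 536, 7), (729, 538, 5), (737, 546, 3), (738, 546, 6), (740, 547, 7), (743, 549, 2), (744, 549, 6), (746, 550, 7), (755, 559, 1), (759, 562, 8), (760, 563, 5), (762, 564, 4), (763, 564, 6), (765, 566, 3), (766, 566, 6), (771, 571, 4), (772, 571, 6), (774, 573, 3), (775, 573, 6), (777, 574, 7), (780,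 576, 2), (781, 576, 6), (783, 577, 5), (784, 577, 7), (789, 582, 8), (796, 590, 2), (797, 590, 6), (799, 591, 5), (800, 591, 7), (805, 596, 1), (806, 596, 6), (808, 597, 7), (820, 608, 0), (825, 612, 3), (826, 612, 6), (828, 613, 7), (831, 615, 2), (832, 615, 6), (834, 616, 5), (835, 616, 7), (840, 621, 1), (841, 621, 6), (843, 622, 5), (844, 622, 7), (847, 624, 7), (848, 624, 8), (855, 630, 8), (865, 640, 1), (866, 640, 6), (868, 641, 5), (869, 641, 7), (872, 643, 7), (879, 649, 0), (880, 649, 6), (882, 650, 7), (902, 669, 0), (903, 669, 6), (905, 670, 5), (906, 670, 7), (909, 672, 4), (910, 672, 7), (915, 676, 6), (923, 683, 6), (925, 684, 7), (942, 705, 3), (943, 705, 8), (944, 706, 5), (946, 707, 4), (948, 709, 8), (949, 710, 5), (951, 711, 4), (952, 711, 6), (954, 713, 3), (955, 713, 6), (960, 718, 4), (961, 718, 6), (963, 720, 3), (964, 720, 6), (966, 721, 7), (969, 723, 2), (970, 723, 6), (972, 724, 5), (973, 724, 7), (978, 729,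 8), (985, 737, 2), (986, 737, 6), (988, 738, 5), (989, 738, 7), (994, 743, 1), (995, 743, 6), (997, 744, 7), (1009, 755, 0), (1014, 759, 5), (1016, 760, 4), (1017, 760, 6), (1019, 762, 3), (1020, 762, 6), (1024, 765, 2), (1025, 765, 6), (1031, 771, 3), (1032, 771, 6), (1034, 772, 7), (1037, 774, 2), (1038, 774, 6), (1040, 775, 5), (1041, 775, 7), (1046, 780, 1), (1047, 780, 6), (1049, 781, 5), (1050, 781, 7), (1053, 783, 8), (1067, 796, 1), (1068, 796, 6), (1070, 797, 5), (1071, 797, 7), (1074, 799, 7), (1081, 805, 0), (1082, 805, 6), (1084, 806, 7), (1104, 825, 2), (1105, 825, 6), (1107, 826, 5), (1108, 826, 7), (1113, 831, 1), (1114, 831, 6), (1116, 832, 5), (1117, 832, 7), (1120, 834, 7), (1121, 834, 8), (1128, 840, 0), (1129, 840, 6), (1131, 841, 5), (1132, 841, 7), (1135, 843, 7), (1136, 843, 8), (1141, 847, 8), (1160, 865, 0), (1161, 865, 6), (1163, 866, 5), (1164, 866, 7), (1167, 868, 4), (1168, 868, 7), (1173, 872, 6), (1181,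 879, 6), (1183, 880, 7), (1206, 902, 6), (1208, 903, 5), (1209, 903, 7), (1212, 905, 4), (1213, 905, 7), (1218, 909, 7), (1220, 910, 6), (1234, 923, 7), (1248, 942, 2), (1249, 942, 8), (1250, 943, 5), (1252, 944, 4), (1254, 946, 3), (1257, 948, 5), (1259, 949, 4), (1260, 949, 6), (1262, 951, 3), (1263, 951, 6), (1267, 954, 2), (1268, 954, 6), (1274, 960, 3), (1275, 960, 6), (1277, 961, 7), (1280, 963, 2), (1281, 963, 6), (1283, 964, 5), (1284, 964, 7), (1289, 969, 1), (1290, 969, 6), (1292, 970, 5), (1293, 970, 7), (1296, 972, 8), (1310, 985, 1), (1311, 985, 6), (1313, 986, 5), (1314, 986, 7), (1317, 988, 7), (1324, 994, 0), (1325, 994, 6), (1327, 995, 7), (1347, 1014, 4), (1348, 1014, 6), (1350, 1016, 3), (1351, 1016, 6), (1353, 1017, 7), (1356, 1019, 2), (1357, 1019, 6), (1359, 1020, 5), (1363, 1024, 1), (1364, 1024, 6), (1372, 1031, 2), (1373, 1031, 6), (1375, 1032, 5), (1376, 1032, 7), (1381, 1037, 1), (1382, 1037, 6), (1384, 1038,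 5), (1385, 1038, 7), (1388, 1040, 7), (1389, 1040, 8), (1396, 1046, 0), (1397, 1046, 6), (1399, 1047, 5), (1400, 1047, 7), (1403, 1049, 8), (1422, 1067, 0), (1423, 1067, 6), (1425, 1068, 5), (1426, 1068, 7), (1429, 1070, 4), (1430, 1070, 7), (1435, 1074, 6), (1443, 1081, 6), (1445, 1082, 7), (1470, 1104, 1), (1471, 1104, 6), (1473, 1105, 5), (1474, 1105, 7), (1477, 1107, 7), (1478, 1107, 8), (1485, 1113, 0), (1486, 1113, 6), (1488, 1114, 5), (1489, 1114, 7), (1492, 1116, 4), (1493, 1116, 7), (1494, 1116, 8), (1499, 1120, 6), (1500, 1120, 8), (1509, 1128, 6), (1511, 1129, 5), (1512, 1129, 7), (1515, 1131, 7), (1516, 1131, 8), (1521, 1135, 8), (1551, 1160, 6), (1553, 1161, 5), (1554, 1161, 7), (1557, 1163, 4), (1558, 1163, 7), (1563, 1167, 7), (1565, 1168, 6), (1582, 1181, 7), (1605, 1206, 5), (1606, 1206, 7), (1609, 1208, 4), (1610, 1208, 7), (1615, 1212, 3), (1616, 1212, 7), (1618, 1213, 6), (1623, 1218, 6), (1646, 1248, 8), (1647,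 1249, 5), (1649, 1250, 4), (1650, 1250, 6), (1652, 1252, 3), (1655, 1254, 2), (1658, 1257, 4), (1659, 1257, 6), (1661, 1259, 3), (1662, 1259, 6), (1664, 1260, 7), (1667, 1262, 2), (1668, 1262, 6), (1670, 1263, 5), (1674, 1267, 1), (1675, 1267, 6), (1683, 1274, 2), (1684, 1274, 6), (1686, 1275, 5), (1687, 1275, 7), (1692, 1280, 1), (1693, 1280, 6), (1695, 1281, 5), (1696, 1281, 7), (1699, 1283, 7), (1700, 1283, 8), (1707, 1289, 0), (1708, 1289, 6), (1710, 1290, 5), (1711, 1290, 7), (1714, 1292, 8), (1733, 1310, 0), (1734, 1310, 6), (1736, 1311, 5), (1737, 1311, 7), (1740, 1313, 4), (1741, 1313, 7), (1746, 1317, 6), (1754, 1324, 6), (1756, 1325, 7), (1781, 1347, 3), (1782, 1347, 6), (1784, 1348, 7), (1787, 1350, 2), (1788, 1350, 6), (1790, 1351, 5), (1791, 1351, 7), (1796, 1356, 1), (1797, 1356, 6), (1799, 1357, 5), (1806, 1363, 0), (1807, 1363, 6), (1817, 1372, 1), (1818, 1372, 6), (1820, 1373, 5), (1821, 1373, 7), (1824, 1375, 7), (1825,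 1375, 8), (1832, 1381, 0), (1833, 1381, 6), (1835, 1382, 5), (1836, 1382, 7), (1839, 1384, 4), (1840, 1384, 7), (1841, 1384, 8), (1846, 1388, 6), (1855, 1396, 6), (1857, 1397, 5), (1858, 1397, 7), (1861, 1399, 8), (1889, 1422, 6), (1891, 1423, 5), (1892, 1423, 7), (1895, 1425, 4), (1896, 1425, 7), (1901, 1429, 7), (1903, 1430, 6), (1920, 1443, 7), (1950, 1470, 0), (1951, 1470, 6), (1953, 1471, 5), (1954, 1471, 7), (1957, 1473, 4), (1958, 1473, 7), (1959, 1473, 8), (1964, 1477, 6), (1965, 1477, 8), (1974, 1485, 6), (1976, 1486, 5), (1977, 1486, 7), (1980, 1488, 4), (1981, 1488, 7), (1982, 1488, 8), (1987, 1492, 7), (1988, 1492, 8), (1990, 1493, 6), (1991, 1493, 8), (1999, 1499, 8), (2012, 1509, 5), (2013, 1509, 7), (2016, 1511, 7), (2017, 1511, 8), (2022, 1515, 8), (2061, 1551, 5), (2062, 1551, 7), (2065, 1553, 4), (2066, 1553, 7), (2071, 1557, 3), (2072, 1557, 7), (2074, 1558, 6), (2081, 1563, 6), (2154, 1649, 3), (2155, 1649, 6), (2159,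 1652, 2), (2162, 1655, 1), (2166, 1658, 3), (2170, 1661, 2), (2171, 1661, 6), (2173, 1662, 5), (2174, 1662, 7), (2179, 1667, 1), (2180, 1667, 6), (2182, 1668, 5), (2189, 1674, 0), (2190, 1674, 6), (2200, 1683, 1), (2201, 1683, 6), (2203, 1684, 5), (2204, 1684, 7), (2207, 1686, 7), (2208, 1686, 8), (2215, 1692, 0), (2216, 1692, 6), (2218, 1693, 5), (2219, 1693, 7), (2222, 1695, 4), (2223, 1695, 7), (2224, 1695, 8), (2229, 1699, 6), (2238, 1707, 6), (2240, 1708, 5), (2241, 1708, 7), (2244, 1710, 8), (2272, 1733, 6), (2274, 1734, 5), (2275, 1734, 7), (2278, 1736, 4), (2279, 1736, 7), (2284, 1740, 7), (2286, 1741, 6), (2303, 1754, 7), (2335, 1781, 2), (2336, 1781, 6), (2342, 1787, 1), (2343, 1787, 6), (2345, 1788, 5), (2346, 1788, 7), (2349, 1790, 7), (2356, 1796, 0), (2357, 1796, 6), (2359, 1797, 5), (2362, 1799, 4), (2370, 1806, 6), (2384, 1817, 0), (2385, 1817, 6), (2387, 1818, 5), (2388, 1818, 7), (2391, 1820, 4), (2392, 1820, 7), (2393,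 1820, 8), (2398, 1824, 6), (2399, 1824, 8), (2408, 1832, 6), (2410, 1833, 5), (2411, 1833, 7), (2414, 1835, 4), (2415, 1835, 7), (2416, 1835, 8), (2421, 1839, 7), (2422, 1839, 8), (2424, 1840, 6), (2443, 1855, 5), (2444, 1855, 7), (2447, 1857, 8), (2484, 1889, 5), (2485, 1889, 7), (2488, 1891, 4), (2489, 1891, 7), (2494, 1895, 3), (2495, 1895, 7), (2497, 1896, 6), (2504, 1901, 6), (2557, 1950, 6), (2559, 1951, 5), (2560, 1951, 7), (2563, 1953, 4), (2564, 1953, 7), (2565, 1953, 8), (2571, 1958, 6), (2579, 1964, 8), (2592, 1974, 5), (2593, 1974, 7), (2596, 1976, 4), (2597, 1976, 7), (2598, 1976, 8), (2603, 1980, 7), (2605, 1981, 6), (2606, 1981, 8), (2642, 2012, 7), (2643, 2012, 8), (2648, 2016, 8), (2782, 2159, 1), (2786, 2162, 0), (2791, 2166, 2), (2795, 2170, 1), (2796, 2170, 6), (2798, 2171, 5), (2801, 2173, 7), (2808, 2179, 0), (2809, 2179, 6), (2811, 2180, 5), (2814, 2182, 4), (2822, 2189, 6), (2836, 2200, 0), (2837, 2200, 6), (2839,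 2201, 5), (2840, 2201, 7), (2843, 2203, 4), (2844, 2203, 7), (2845, 2203, 8), (2850, 2207, 6), (2851, 2207, 8), (2860, 2215, 6), (2862, 2216, 5), (2863, 2216, 7), (2866, 2218, 4), (2867, 2218, 7), (2868, 2218, 8), (2873, 2222, 7), (2874, 2222, 8), (2876, 2223, 6), (2895, 2238, 5), (2896, 2238, 7), (2899, 2240, 8), (2936, 2272, 5), (2937, 2272, 7), (2940, 2274, 4), (2941, 2274, 7), (2946, 2278, 3), (2947, 2278, 7), (2949, 2279, 6), (2956, 2284, 6), (3015, 2335, 1), (3016, 2335, 6), (3024, 2342, 0), (3025, 2342, 6), (3027, 2343, 5), (3028, 2343, 7), (3031, 2345, 4), (3032, 2345, 7), (3044, 2356, 6), (3046, 2357, 5), (3049, 2359, 4), (3079, 2384, 6), (3081, 2385, 5), (3082, 2385, 7), (3085, 2387, 4), (3086, 2387, 7), (3087, 2387, 8), (3092, 2391, 7), (3093, 2391, 8), (3095, 2392, 6), (3096, 2392, 8), (3116, 2408, 5), (3117, 2408, 7), (3120, 2410, 4), (3121, 2410, 7), (3122, 2410, 8), (3127, 2414, 3), (3128, 2414, 7), (3129, 2414, 8), (3131,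 2415, 6), (3139, 2421, 6), (3165, 2443, 8), (3292, 2557, 5), (3293, 2557, 7), (3333, 2592, 8), (3391, 2642, 8), (3521, 2782, 0), (3536, 2795, 0), (3538, 2796, 5), (3551, 2808, 6), (3553, 2809, 5), (3556, 2811, 4), (3585, 2836, 6), (3587, 2837, 5), (3590, 2839, 4), (3591, 2839, 7), (3592, 2839, 8), (3597, 2843, 7), (3598, 2843, 8), (3600, 2844, 6), (3601, 2844, 8), (3621, 2860, 5), (3622, 2860, 7), (3625, 2862, 4), (3626, 2862, 7), (3627, 2862, 8), (3632, 2866, 3), (3633, 2866, 7), (3634, 2866, 8), (3636, 2867, 6), (3644, 2873, 6), (3670, 2895, 8), (3720, 2936, 4), (3721, 2936, 7), (3726, 2940, 3), (3727, 2940, 7), (3729, 2941, 6), (3823, 3025, 5), (3826, 3027, 4), (3827, 3027, 7), (3848, 3044, 5), (3851, 3046, 4), (3855, 3049, 3), (3892, 3079, 5), (3895, 3081, 4), (3896, 3081, 7), (3897, 3081, 8), (3902, 3085, 3), (3904, 3086, 6), (3939, 3116, 8), (3952, 3127, 8), (4418, 3551, 5), (4424, 3556, 3), (4460, 3585, 5), (4463, 3587, 4), (4467,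 3590, 3), (4468, 3590, 7), (4469, 3590, 8), (4471, 3591, 6), (4472, 3591, 8), (4507, 3621, 4), (4508, 3621, 7), (4509, 3621, 8), (4514, 3625, 7), (4516, 3626, 6)]

theorem levS1 : 960 * Nat.card ↥(KS [1]) ≤ Nat.card ↥(KS []) :=
  levelS (L := LL1) (by decide +kernel) 1 TS1 (by decide +kernel) 960 (by decide +kernel)

def LL2 : List ℕ := [0, 1, 2, 3, 4, 5, 6, 7]

def TS2 : List (ℕ × ℕ × ℕ) :=
  [(942, 1248, 2), (709, 942, 1), (705, 942, 3), (562, 709, 0), (525, 709, 3), (522, 705, 4), (408, 562, 3), (384, 525, 2), (379, 525, 4), (376, 522, 5), (293, 408, 2), (288, 408, 4), (271, 384, 4), (267, 379, 5), (265, 376, 6), (220, 293, 1), (203, 293, 4), (199, 288, 5), (191, 271, 3), (187, 271, 5), (185, 267, 6), (184, 265, 7), (151, 220, 4), (143, 203, 3), (139, 203, 5), (137, 199, 6), (131, 191, 5), (129, 187, 6), (128, 185, 7), (107, 151, 3), (103, 151, 5), (97, 143, 5), (95, 139, 6), (94, 137, 7), (91, 131, 4), (89, 131, 6), (88, 129, 7),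 (78, 107, 2), (72, 107, 5), (70, 103, 6), (67, 97, 4), (65, 97, 6), (64, 95, 7), (62, 91, 6), (61, 89, 7), (53, 78, 5), (50, 72, 4), (48, 72, 6), (47, 70, 7), (45, 67, 6), (44, 65, 7), (43, 62, 5), (42, 62, 7), (37, 53, 4), (35, 53, 6), (33, 50, 6), (32, 48, 7), (31, 45, 5), (30, 45, 7), (29, 43, 7), (26, 37, 3), (24, 37, 6), (23, 35, 7), (22, 33, 5), (21, 33, 7), (20, 31, 7), (19, 29, 6), (17, 26, 6), (16, 24, 5), (15, 24, 7), (14, 22, 7), (13, 20, 6), (12, 17, 5), (11, 17, 7), (10, 16, 7), (9, 14, 6), (8, 12, 4), (7, 12, 7), (6, 10, 6), (5, 8, 7), (4, 7, 6), (3, 5, 6), (2, 3, 5)]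

theorem levS2 : 84 * Nat.card ↥(KS [1248, 1]) ≤ Nat.card ↥(KS [1]) :=
  levelS (L := LL2) (by decide +kernel) 1248 TS2 (by decide +kernel) 84 (by decide +kernel)

def LL3 : List ℕ := [0, 1, 3, 4, 5, 6, 7]

def TS3 : List (ℕ × ℕ × ℕ) :=
  [(709, 942, 1), (705, 942, 3), (562, 709, 0), (525, 709, 3), (522, 705, 4), (408, 562, 3), (379, 525, 4), (376, 522, 5), (288, 408, 4), (267, 379, 5), (265, 376, 6), (199, 288, 5), (185, 267, 6), (184, 265, 7), (137, 199, 6), (128, 185, 7), (94, 137, 7)]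

theorem levS3 : 18 * Nat.card ↥(KS [942, 1248, 1]) ≤ Nat.card ↥(KS [1248, 1]) :=
  levelS (L := LL3) (by decide +kernel) 942 TS3 (by decide +kernel) 18 (by decide +kernel)

def LL4 : List ℕ := [0, 4, 5, 6, 7]

def TS4 : List (ℕ × ℕ × ℕ) :=
  [(709, 562, 0)]

theorem levS4 : 2 * Nat.card ↥(KS [562, 942, 1248, 1]) ≤ Nat.card ↥(KS [942, 1248, 1]) :=
  levelS (L := LL4) (by decide +kernel) 562 TS4 (by decide +kernel) 2 (by decide +kernel)

def LL5 : List ℕ := [4, 5, 6, 7]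

def TS5 : List (ℕ × ℕ × ℕ) :=
  [(59, 86, 4), (40, 59, 5), (27, 40, 6), (18, 27, 7)]

theorem levS5 : 5 * Nat.card ↥(KS [86, 562, 942, 1248, 1]) ≤ Nat.card ↥(KS [562, 942, 1248, 1]) :=
  levelS (L := LL5) (by decide +kernel) 86 TS5 (by decide +kernel) 5 (by decide +kernel)

def LL6 : List ℕ := [5, 6, 7]

def TS6 : List (ℕ × ℕ × ℕ) :=
  [(3, 2, 5), (5, 3, 6), (8, 5, 7)]

theorem levS6 : 4 * Nat.card ↥(KS [2, 86, 562, 942, 1248, 1]) ≤ Nat.card ↥(KS [86, 562, 942, 1248, 1]) :=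
  levelS (L := LL6) (by decide +kernel) 2 TS6 (by decide +kernel) 4 (by decide +kernel)

def LL7 : List ℕ := [6, 7]

def TS7 : List (ℕ × ℕ × ℕ) :=
  [(5, 3, 6), (8, 5, 7)]

theorem levS7 : 3 * Nat.card ↥(KS [3, 2, 86, 562, 942, 1248, 1]) ≤ Nat.card ↥(KS [2, 86, 562, 942, 1248, 1]) :=
  levelS (L := LL7) (by decide +kernel) 3 TS7 (by decide +kernel) 3 (by decide +kernel)

def LL8 : List ℕ := [7]

def TS8 : List (ℕ × ℕ × ℕ) :=
  [(8, 5, 7)]

theorem levS8 : 2 * Nat.card ↥(KS [5, 3, 2, 86, 562, 942, 1248, 1]) ≤ Nat.card ↥(KS [3, 2, 86, 562, 942, 1248, 1]) :=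
  levelS (L := LL8) (by decide +kernel) 5 TS8 (by decide +kernel) 2 (by decide +kernel)

theorem card_Hs_le : Nat.card Hs ≤ 348364800 :=
  Nat.le_of_dvd (by norm_num) card_Hs_dvd

theorem card_base : Nat.card ↥(KS [5, 3, 2, 86, 562, 942, 1248, 1]) = 1 := by
  have h1 := levS1
  have h2 := levS2
  have h3 := levS3
  have h4 := levS4
  have h5 := levS5
  have h6 := levS6
  have h7 := levS7
  have h8 := levS8
  have h0 := card_Hs_le
  have hK : Nat.card ↥(KS ([] : List ℕ)) = Nat.card Hs := rfl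
  have hpos : 0 < Nat.card ↥(KS [5, 3, 2, 86, 562, 942, 1248, 1]) := by
    haveI := finG
    exact Nat.card_pos
  omega

theorem eq_one_of_fix {g : G} (hg : g ∈ Hs) (h : ∀ b ∈ [5, 3, 2, 86, 562, 942, 1248, 1], phi g b = b) : g = 1 := by
  have hm : g ∈ KS [5, 3, 2, 86, 562, 942, 1248, 1] := mem_KS.mpr ⟨hg, h⟩
  have hb : KS [5, 3, 2, 86, 562, 942, 1248, 1] = ⊥ := Subgroup.card_eq_one.mp card_base
  rw [hb, Subgroup.mem_bot] at hm
  exact hm

/-- the spider word `(d c b d e f d h i)^10`, letters in action order. -/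
def spw : List ℕ := [9, 8, 5, 7, 6, 5, 3, 4, 5, 9, 8, 5, 7, 6, 5, 3, 4, 5, 9, 8, 5, 7, 6, 5, 3, 4, 5, 9, 8, 5, 7, 6, 5, 3, 4, 5, 9, 8, 5, 7, 6, 5, 3, 4, 5, 9, 8, 5, 7, 6, 5, 3, 4, 5, 9, 8, 5, 7, 6, 5, 3, 4, 5, 9, 8, 5, 7, 6, 5, 3, 4, 5, 9, 8, 5, 7, 6, 5, 3, 4, 5, 9, 8, 5, 7, 6, 5, 3, 4, 5]

theorem spw_lt : ∀ l ∈ spw, l < nl := by decide

theorem spider_prodw : prodw spw = 1 := by
  apply eq_one_of_fix
  · rw [← stab0, phi_prodw_apply _ spw_lt]
    decide +kernel
  · intro b hb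
    rw [phi_prodw_apply _ spw_lt]
    revert b
    decide +kernel

theorem spider_SP6 : (PresentedGroup.mk Rels
    ((SP6.d * SP6.c * SP6.b * SP6.d * SP6.e * SP6.f * SP6.d * SP6.h * SP6.i) ^ 10) : G) = 1 := by
  have h := spider_prodw
  simp only [spw, prodw, one_mul, mul_assoc] at h
  simp only [map_mul, map_pow, mk_of, ofG0, ofG1, ofG2, ofG3, ofG4, ofG5, ofG6, ofG7, ofG8, ofG9]
  simp only [pow_succ, pow_zero, one_mul, mul_assoc]
  exact h

end Cfsg.Agent.Helper17.Fi24Sp
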