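import Mathlib
import Cfsg.Prelude.Def_Spor_Fi24
import Cfsg.Agent.Helper17.Fi24Sp.Faithful

/-! The spider relation `(d c b d e f d h i)^10 = 1` in the presented group `Fi₂₄`. -/

set_option autoImplicit false
set_option linter.all false

noncomputable section

namespace Cfsg.Agent.Helper17.Fi24Sp

open Cfsg.Spor

abbrev R24 : Set (FreeGroup Fi24.Gen) := coxRelators Fi24.edges ∪ {r | r ∈ Fi24.extra}

abbrev G24 := PresentedGroup R24

theorem mem_nodes24 (x : Fi24.Gen) : x ∈ coxNodes Fi24.edges := by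
  cases x <;> decide

theorem cox24 (x y : Fi24.Gen) :
    ((PresentedGroup.of x : G24) * PresentedGroup.of y) ^ coxLabel Fi24.edges x y = 1 := by
  have h : (FreeGroup.of x * FreeGroup.of y) ^ coxLabel Fi24.edges x y ∈ R24 :=
    Or.inl ⟨x, mem_nodes24 x, y, mem_nodes24 y, rfl⟩
  have := PresentedGroup.one_of_mem h
  simpa [PresentedGroup.of] using this

theorem extra24 {r : FreeGroup Fi24.Gen} (h : r ∈ Fi24.extra) :
    (PresentedGroup.mk R24 r : G24) = 1 :=
  PresentedGroup.one_of_mem (Or.inr h)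

def emb6 : SP6.Gen → Fi24.Gen
  | .l => .l
  | .k => .k
  | .a => .a
  | .b => .b
  | .c => .c
  | .d => .d
  | .e => .e
  | .f => .f
  | .h => .h
  | .i => .i

def f6 (x : SP6.Gen) : G24 := PresentedGroup.of (emb6 x)

theorem lab6 (x y : SP6.Gen) :
    coxLabel SP6.edges x y = coxLabel Fi24.edges (emb6 x) (emb6 y) := by
  cases x <;> cases y <;> decide

theorem rel6 : ∀ r ∈ SP6TC.Rels, FreeGroup.lift f6 r = 1 := by
  intro r hr
  rcases hr with ⟨x, _, y, _, rfl⟩ | hr
  · rw [map_pow, map_mul, FreeGroup.lift_apply_of, FreeGroup.lift_apply_of, lab6]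
    exact cox24 (emb6 x) (emb6 y)
  · simp only [Set.mem_setOf_eq, SP6.extra, List.mem_cons, List.mem_singleton, List.not_mem_nil,
      or_false] at hr
    subst hr
    have h := extra24 (r := Fi24.l * (((Fi24.a * Fi24.b * Fi24.c * Fi24.d * Fi24.e * Fi24.f * Fi24.h) ^ 9)⁻¹))
      (by simp [Fi24.extra])
    simpa [f6, emb6, PresentedGroup.of] using h

def toFi24 : SP6TC.G →* G24 := PresentedGroup.toGroup rel6

theorem toFi24_of (x : SP6.Gen) : toFi24 (PresentedGroup.of x) = f6 x :=
  PresentedGroup.toGroup.of rel6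

theorem toFi24_mk (x : SP6.Gen) :
    toFi24 (PresentedGroup.mk SP6TC.Rels (FreeGroup.of x)) =
      PresentedGroup.mk R24 (FreeGroup.of (emb6 x)) := toFi24_of x

/-- the spider relation holds in the presented group `Fi₂₄`. -/
theorem spider_Fi24 : (PresentedGroup.mk R24
    ((Fi24.d * Fi24.c * Fi24.b * Fi24.d * Fi24.e * Fi24.f * Fi24.d * Fi24.h * Fi24.i) ^ 10) : G24) = 1 := by
  have h := congrArg toFi24 spider_SP6
  rw [map_one] at h
  simp only [map_mul, map_pow, SP6.b, SP6.c, SP6.d, SP6.e, SP6.f, SP6.h, SP6.i, toFi24_mk, emb6] at h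
  simpa only [map_mul, map_pow] using h

end Cfsg.Agent.Helper17.Fi24Sp
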