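import Mathlib
import Cfsg.Prelude.Def_Spor_Fi23
import Cfsg.Agent.Helper17.Fi24Sp.ToFi24
import Cfsg.Agent.Helper17.Fi23Ord.Simple

/-! In the presented group `Fi₂₄`, the subgroup `H = ⟨a,…,j,l⟩` is `2 × Fi₂₃`: the map
`x ↦ x·l` extends to a homomorphism from the presented group `Fi₂₃` (the spider relation holds in `Fi₂₄`,
and `(a b c d e f h)^9 = l`), it is injective when `H` has index `306936`, and `|H| = 2·|Fi₂₃|`. -/

set_option autoImplicit false
set_option linter.all false

noncomputable section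

namespace Cfsg.Agent.Helper17.Fi24Sp

open Cfsg.Spor

theorem mk_of24 (x : Fi24.Gen) : PresentedGroup.mk R24 (FreeGroup.of x) = PresentedGroup.of x := rfl

def oG (x : Fi24.Gen) : G24 := PresentedGroup.of x

theorem oG_sq (x : Fi24.Gen) : oG x * oG x = 1 := by
  have := cox24 x x
  simpa [coxLabel, oG] using this

theorem oG_inv (x : Fi24.Gen) : (oG x)⁻¹ = oG x := by
  rw [inv_eq_iff_mul_eq_one]; exact oG_sq x

def lG : G24 := oG Fi24.Gen.l

theorem lG_sq : lG * lG = 1 := oG_sq _

theorem lG_inv : lG⁻¹ = lG := oG_inv _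

def emb23 : Fi23.Gen → Fi24.Gen
  | .a => .a
  | .b => .b
  | .c => .c
  | .d => .d
  | .e => .e
  | .f => .f
  | .g => .g
  | .j => .j
  | .h => .h
  | .i => .i

def f0 (x : Fi23.Gen) : G24 := oG (emb23 x)

theorem lab23 (x y : Fi23.Gen) :
    coxLabel Fi23.edges x y = coxLabel Fi24.edges (emb23 x) (emb23 y) := by
  cases x <;> cases y <;> decide

theorem labl (x : Fi23.Gen) : coxLabel Fi24.edges (emb23 x) Fi24.Gen.l = 2 := by
  cases x <;> decide

theorem comm_l (x : Fi23.Gen) : Commute (f0 x) lG := by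
  have h := cox24 (emb23 x) Fi24.Gen.l
  rw [labl, pow_two] at h
  -- (x l)(x l) = 1
  have h2 : f0 x * lG = (f0 x * lG)⁻¹ := by
    rw [eq_inv_iff_mul_eq_one]; exact h
  rw [mul_inv_rev, lG_inv, f0, oG_inv] at h2
  exact h2

def fl (_ : Fi23.Gen) : G24 := lG

theorem comm_lift (m n : FreeGroup Fi23.Gen) :
    Commute (FreeGroup.lift f0 m) (FreeGroup.lift fl n) := by
  have h1 : FreeGroup.lift fl n ∈ Subgroup.zpowers lG := by
    have : (FreeGroup.lift fl).range ≤ Subgroup.zpowers lG := by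
      apply FreeGroup.range_lift_le
      rintro _ ⟨x, rfl⟩
      exact Subgroup.mem_zpowers lG
    exact this ⟨n, rfl⟩
  have h2 : FreeGroup.lift f0 m ∈ Subgroup.centralizer ({lG} : Set G24) := by
    have : (FreeGroup.lift f0).range ≤ Subgroup.centralizer ({lG} : Set G24) := by
      apply FreeGroup.range_lift_le
      rintro _ ⟨x, rfl⟩
      rw [SetLike.mem_coe, Subgroup.mem_centralizer_iff]
      intro y hy
      rw [Set.mem_singleton_iff] at hy
      subst hy
      exact (comm_l x).symm.eq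
    exact this ⟨m, rfl⟩
  obtain ⟨k, hk⟩ := h1
  rw [← hk]
  apply Commute.zpow_right
  rw [Subgroup.mem_centralizer_iff] at h2
  exact (h2 lG rfl).symm

def psi0 : FreeGroup Fi23.Gen →* G24 :=
  (MonoidHom.noncommCoprod (FreeGroup.lift f0) (FreeGroup.lift fl) comm_lift).comp
    (MonoidHom.prod (MonoidHom.id _) (MonoidHom.id _))

theorem psi0_apply (r : FreeGroup Fi23.Gen) :
    psi0 r = FreeGroup.lift f0 r * FreeGroup.lift fl r := rfl

def f23 (x : Fi23.Gen) : G24 := f0 x * lG

theorem lift_f23 : FreeGroup.lift f23 = psi0 := by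
  apply FreeGroup.ext_hom
  intro x
  rw [psi0_apply, FreeGroup.lift_apply_of, FreeGroup.lift_apply_of, FreeGroup.lift_apply_of]
  rfl

theorem e7_eq : (f0 .a * f0 .b * f0 .c * f0 .d * f0 .e * f0 .f * f0 .h) ^ 9 = lG := by
  have h := extra24 (r := Fi24.l * (((Fi24.a * Fi24.b * Fi24.c * Fi24.d * Fi24.e * Fi24.f * Fi24.h) ^ 9)⁻¹))
    (by simp [Fi24.extra])
  simp only [map_mul, map_inv, map_pow, mk_of24] at h
  rw [mul_inv_eq_one] at h
  exact h.symm

theorem spider_f0 : (f0 .d * f0 .c * f0 .b * f0 .d * f0 .e * f0 .f * f0 .d * f0 .h * f0 .i) ^ 10 = 1 := by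
  have h := spider_Fi24
  simp only [map_mul, map_pow, mk_of24] at h
  exact h

theorem lG_pow_even {n : ℕ} (h : Even n) : lG ^ n = 1 := by
  obtain ⟨k, rfl⟩ := h
  rw [← two_mul, pow_mul, pow_two, lG_sq, one_pow]

theorem lG_pow_odd {n : ℕ} (h : Odd n) : lG ^ n = lG := by
  obtain ⟨k, rfl⟩ := h
  rw [pow_succ, pow_mul, pow_two, lG_sq, one_pow, one_mul]

theorem rel23 : ∀ r ∈ Fi23TC.Rels, FreeGroup.lift f23 r = 1 := by
  intro r hr
  rw [lift_f23, psi0_apply]
  rcases hr with ⟨x, _, y, _, rfl⟩ | hr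
  · rw [map_pow, map_pow, map_mul, map_mul, FreeGroup.lift_apply_of, FreeGroup.lift_apply_of,
      FreeGroup.lift_apply_of, FreeGroup.lift_apply_of, lab23]
    have h1 : (f0 x * f0 y) ^ coxLabel Fi24.edges (emb23 x) (emb23 y) = 1 := cox24 _ _
    rw [h1, one_mul]
    show (lG * lG) ^ _ = 1
    rw [lG_sq, one_pow]
  · simp only [Set.mem_setOf_eq, Fi23.extra, List.mem_cons, List.mem_singleton, List.not_mem_nil,
      or_false] at hr
    rcases hr with rfl | rfl
    · simp only [map_pow, map_mul, FreeGroup.lift_apply_of]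
      rw [spider_f0, one_mul]
      simp only [fl]
      have : lG * lG * lG * lG * lG * lG * lG * lG * lG = lG ^ 9 := by
        simp only [pow_succ, pow_zero, one_mul]
      rw [this, ← pow_mul]
      exact lG_pow_even (by decide)
    · simp only [map_pow, map_mul, FreeGroup.lift_apply_of]
      rw [e7_eq]
      simp only [fl]
      have : lG * lG * lG * lG * lG * lG * lG = lG ^ 7 := by
        simp only [pow_succ, pow_zero, one_mul]
      rw [this, ← pow_mul, lG_pow_odd (by decide)]
      exact lG_sq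

/-- the homomorphism `Fi₂₃ → Fi₂₄`, `x ↦ x·l`. -/
def psi23 : Fi23TC.G →* G24 := PresentedGroup.toGroup rel23

theorem psi23_of (x : Fi23.Gen) : psi23 (PresentedGroup.of x) = f23 x :=
  PresentedGroup.toGroup.of rel23

theorem psi23_range : psi23.range = Subgroup.closure (Set.range f23) := by
  rw [MonoidHom.range_eq_map, ← PresentedGroup.closure_range_of, MonoidHom.map_closure]
  congr 1
  ext g
  constructor
  · rintro ⟨_, ⟨x, rfl⟩, rfl⟩; exact ⟨x, (psi23_of x).symm⟩
  · rintro ⟨x, rfl⟩; exact ⟨_, ⟨x, rfl⟩, psi23_of x⟩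

/-! ### the sign character -/

def sgnf (_ : Fi24.Gen) : ℤˣ := -1

theorem relsgn : ∀ r ∈ R24, FreeGroup.lift sgnf r = 1 := by
  intro r hr
  rcases hr with ⟨x, _, y, _, rfl⟩ | hr
  · rw [map_pow, map_mul, FreeGroup.lift_apply_of, FreeGroup.lift_apply_of]
    simp [sgnf]
  · simp only [Set.mem_setOf_eq, Fi24.extra, List.mem_cons, List.mem_singleton, List.not_mem_nil,
      or_false] at hr
    rcases hr with rfl | rfl
    · simp only [map_mul, map_inv, map_pow, FreeGroup.lift_apply_of, sgnf]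
      decide
    · simp only [map_mul, map_inv, map_pow, FreeGroup.lift_apply_of, sgnf]
      decide

def sgn : G24 →* ℤˣ := PresentedGroup.toGroup relsgn

theorem sgn_oG (x : Fi24.Gen) : sgn (oG x) = -1 :=
  PresentedGroup.toGroup.of relsgn

theorem sgn_lG : sgn lG = -1 := sgn_oG _

theorem lG_ne_one : lG ≠ 1 := by
  intro h
  have := sgn_lG
  rw [h, map_one] at this
  exact absurd this (by decide)

theorem orderOf_lG : orderOf lG = 2 := by
  apply orderOf_eq_prime
  · rw [pow_two]; exact lG_sq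
  · exact lG_ne_one

theorem sgn_f23 (x : Fi23.Gen) : sgn (f23 x) = 1 := by
  rw [f23, map_mul, f0, sgn_oG, sgn_lG]
  decide

theorem range_le_ker : psi23.range ≤ sgn.ker := by
  rw [psi23_range, Subgroup.closure_le]
  rintro _ ⟨x, rfl⟩
  rw [SetLike.mem_coe, MonoidHom.mem_ker]
  exact sgn_f23 x

theorem mem_zpowers_lG {x : G24} (hx : x ∈ Subgroup.zpowers lG) : x = 1 ∨ x = lG := by
  rw [Subgroup.mem_zpowers_iff] at hx
  obtain ⟨k, rfl⟩ := hx
  rcases Int.even_or_odd' k with ⟨m, rfl | rfl⟩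
  · left
    rw [zpow_mul, zpow_two, lG_sq, one_zpow]
  · right
    rw [zpow_add, zpow_mul, zpow_two, lG_sq, one_zpow, one_mul, zpow_one]

theorem disj : Disjoint psi23.range (Subgroup.zpowers lG) := by
  rw [Subgroup.disjoint_def]
  intro x h1 h2
  rcases mem_zpowers_lG h2 with rfl | rfl
  · rfl
  · have := range_le_ker h1
    rw [MonoidHom.mem_ker, sgn_lG] at this
    exact absurd this (by decide)

theorem range_le_cent : psi23.range ≤ Subgroup.centralizer ({lG} : Set G24) := by
  rw [psi23_range, Subgroup.closure_le]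
  rintro _ ⟨x, rfl⟩
  rw [SetLike.mem_coe, Subgroup.mem_centralizer_iff]
  intro y hy
  rw [Set.mem_singleton_iff] at hy
  rw [hy]
  have h1 : Commute (f0 x) lG := comm_l x
  have h2 : Commute (f0 x * lG) lG := h1.mul_left (Commute.refl lG)
  exact h2.symm.eq

theorem comm_psi (m : Fi23TC.G) (n : Subgroup.zpowers lG) :
    Commute (psi23 m) ((Subgroup.zpowers lG).subtype n) := by
  have h := range_le_cent ⟨m, rfl⟩
  rw [Subgroup.mem_centralizer_iff] at h
  obtain ⟨n, k, rfl⟩ := n
  show Commute (psi23 m) (lG ^ k)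
  apply Commute.zpow_right
  exact (h lG rfl).symm

/-- `Fi₂₃ × ⟨l⟩ → Fi₂₄`. -/
def Psi : Fi23TC.G × Subgroup.zpowers lG →* G24 :=
  MonoidHom.noncommCoprod psi23 (Subgroup.zpowers lG).subtype comm_psi

/-- the subgroup `⟨a,…,j,l⟩` of the presented group `Fi₂₄`. -/
def H24 : Subgroup G24 :=
  (Subgroup.closure ({Fi24.a, Fi24.b, Fi24.c, Fi24.d, Fi24.e, Fi24.f, Fi24.g, Fi24.h, Fi24.i,
    Fi24.j, Fi24.l} : Set (FreeGroup Fi24.Gen))).map (PresentedGroup.mk R24)

theorem oG_mem_H24 {x : Fi24.Gen} (hx : x ≠ Fi24.Gen.k) : oG x ∈ H24 := by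
  cases x
  · exact Subgroup.mem_map_of_mem _ (Subgroup.subset_closure (by simp : Fi24.l ∈ _))
  · exact absurd rfl hx
  · exact Subgroup.mem_map_of_mem _ (Subgroup.subset_closure (by simp : Fi24.a ∈ _))
  · exact Subgroup.mem_map_of_mem _ (Subgroup.subset_closure (by simp : Fi24.b ∈ _))
  · exact Subgroup.mem_map_of_mem _ (Subgroup.subset_closure (by simp : Fi24.c ∈ _))
  · exact Subgroup.mem_map_of_mem _ (Subgroup.subset_closure (by simp : Fi24.d ∈ _))
  · exact Subgroup.mem_map_of_mem _ (Subgroup.subset_closure (by simp : Fi24.e ∈ _))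
  · exact Subgroup.mem_map_of_mem _ (Subgroup.subset_closure (by simp : Fi24.f ∈ _))
  · exact Subgroup.mem_map_of_mem _ (Subgroup.subset_closure (by simp : Fi24.g ∈ _))
  · exact Subgroup.mem_map_of_mem _ (Subgroup.subset_closure (by simp : Fi24.j ∈ _))
  · exact Subgroup.mem_map_of_mem _ (Subgroup.subset_closure (by simp : Fi24.h ∈ _))
  · exact Subgroup.mem_map_of_mem _ (Subgroup.subset_closure (by simp : Fi24.i ∈ _))

theorem emb23_ne (x : Fi23.Gen) : emb23 x ≠ Fi24.Gen.k := by
  cases x <;> decide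

theorem Psi_range : Psi.range = H24 := by
  rw [Psi, MonoidHom.noncommCoprod_range, Subgroup.range_subtype]
  apply le_antisymm
  · rw [sup_le_iff]
    constructor
    · rw [psi23_range, Subgroup.closure_le]
      rintro _ ⟨x, rfl⟩
      exact H24.mul_mem (oG_mem_H24 (emb23_ne x)) (oG_mem_H24 (by decide))
    · rw [Subgroup.zpowers_le]
      exact oG_mem_H24 (by decide)
  · rw [H24, MonoidHom.map_closure, Subgroup.closure_le]
    rintro _ ⟨s, hs, rfl⟩
    have hl : lG ∈ psi23.range ⊔ Subgroup.zpowers lG :=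
      Subgroup.mem_sup_right (Subgroup.mem_zpowers lG)
    have hx : ∀ x : Fi23.Gen, oG (emb23 x) ∈ psi23.range ⊔ Subgroup.zpowers lG := by
      intro x
      have h1 : f23 x ∈ psi23.range ⊔ Subgroup.zpowers lG :=
        Subgroup.mem_sup_left ⟨_, psi23_of x⟩
      have h2 := Subgroup.mul_mem _ h1 hl
      rw [f23, mul_assoc, lG_sq, mul_one] at h2
      exact h2
    simp only [Set.mem_insert_iff, Set.mem_singleton_iff] at hs
    rcases hs with rfl | rfl | rfl | rfl | rfl | rfl | rfl | rfl | rfl | rfl | rfl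
    · exact hx .a
    · exact hx .b
    · exact hx .c
    · exact hx .d
    · exact hx .e
    · exact hx .f
    · exact hx .g
    · exact hx .h
    · exact hx .i
    · exact hx .j
    · exact hl

theorem labkb : coxLabel Fi24.edges Fi24.Gen.k Fi24.Gen.b = 2 := by decide

theorem labkl : coxLabel Fi24.edges Fi24.Gen.k Fi24.Gen.l = 3 := by decide

theorem H24_top_of_trivial (h : ∀ x : Fi23.Gen, f23 x = 1) : H24 = ⊤ := by
  have hx : ∀ x : Fi23.Gen, oG (emb23 x) = lG := by
    intro x
    have := h x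
    rw [f23, mul_eq_one_iff_eq_inv, lG_inv] at this
    exact this
  have hb : oG Fi24.Gen.b = lG := hx .b
  have hk : oG Fi24.Gen.k = lG := by
    have h1 := cox24 Fi24.Gen.k Fi24.Gen.b
    rw [labkb, pow_two] at h1
    have h2 := cox24 Fi24.Gen.k Fi24.Gen.l
    rw [labkl] at h2
    change (oG Fi24.Gen.k * oG Fi24.Gen.b) * (oG Fi24.Gen.k * oG Fi24.Gen.b) = 1 at h1
    change (oG Fi24.Gen.k * lG) ^ 3 = 1 at h2
    rw [hb] at h1
    -- (k l)^2 = 1 and (k l)^3 = 1 give k l = 1
    have h3 : oG Fi24.Gen.k * lG = 1 := by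
      have : (oG Fi24.Gen.k * lG) ^ 3 = (oG Fi24.Gen.k * lG) * ((oG Fi24.Gen.k * lG) * (oG Fi24.Gen.k * lG)) := by
        rw [pow_succ, pow_two, mul_assoc]
      rw [this, h1, mul_one] at h2
      exact h2
    rw [mul_eq_one_iff_eq_inv, lG_inv] at h3
    exact h3
  rw [eq_top_iff, ← PresentedGroup.closure_range_of, Subgroup.closure_le]
  rintro _ ⟨x, rfl⟩
  have hl : lG ∈ H24 := oG_mem_H24 (by decide)
  have : (PresentedGroup.of x : G24) = lG := by
    cases x
    · rfl
    · exact hk
    · exact hx .a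
    · exact hx .b
    · exact hx .c
    · exact hx .d
    · exact hx .e
    · exact hx .f
    · exact hx .g
    · exact hx .j
    · exact hx .h
    · exact hx .i
  rw [SetLike.mem_coe, this]
  exact hl

theorem psi23_injective (hidx : H24.index = 306936) : Function.Injective psi23 := by
  haveI := Fi23Ord.isSimple
  rw [← MonoidHom.ker_eq_bot_iff]
  rcases (MonoidHom.normal_ker psi23).eq_bot_or_eq_top with h | h
  · exact h
  · exfalso
    have ht : H24 = ⊤ := by
      apply H24_top_of_trivial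
      intro x
      rw [← psi23_of]
      have : (PresentedGroup.of x : Fi23TC.G) ∈ psi23.ker := by rw [h]; exact Subgroup.mem_top _
      exact this
    rw [ht, Subgroup.index_top] at hidx
    norm_num at hidx

theorem Psi_injective (hidx : H24.index = 306936) : Function.Injective Psi := by
  rw [Psi, MonoidHom.noncommCoprod_injective]
  refine ⟨psi23_injective hidx, Subgroup.subtype_injective _, ?_⟩
  rw [Subgroup.range_subtype]
  exact disj

theorem card_H24 (hidx : H24.index = 306936) : Nat.card H24 = 2 * 4089470473293004800 := by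
  rw [← Psi_range]
  have h := Nat.card_congr (MonoidHom.ofInjective (Psi_injective hidx)).toEquiv
  rw [← h, Nat.card_prod, Fi23Ord.card_G, Nat.card_zpowers, orderOf_lG, mul_comm]

theorem card_G24 (hidx : H24.index = 306936) :
    Nat.card G24 = 306936 * (2 * 4089470473293004800) := by
  rw [← Subgroup.card_mul_index H24, hidx, card_H24 hidx, mul_comm]

end Cfsg.Agent.Helper17.Fi24Sp
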