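import Mathlib
import Cfsg.Agent.Helper17.Fi24Sp.Sub

/-! Abstract part of the simplicity proof of `Fi₂₄'`: normal subgroups of `H = ⟨a,…,j,l⟩ ≅ Fi₂₃ × 2`,
conjugacy of the generators, and the fact that a nontrivial normal subgroup of `Fi₂₄` contains the
commutator subgroup (given that `H` is maximal and has two orbits on the nontrivial cosets). -/

set_option autoImplicit false
set_option linter.all false

noncomputable section

namespace Cfsg.Agent.Helper17.Fi24Sp

open Cfsg.Spor

/-! ### the generators are conjugate -/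

theorem conj_adj {x y : Fi24.Gen} (h : coxLabel Fi24.edges x y = 3) :
    oG y = (oG x * oG y) * oG x * (oG x * oG y)⁻¹ := by
  have h3 := cox24 x y
  rw [h] at h3
  change (oG x * oG y) ^ 3 = 1 at h3
  have e : oG x * oG y * oG x * oG y * oG x * oG y = 1 := by
    rw [← h3]
    simp only [pow_succ, pow_zero, one_mul, mul_assoc]
  have e2 : oG x * oG y * oG x * oG y * oG x = oG y := by
    rw [mul_eq_one_iff_eq_inv, oG_inv] at e
    exact e
  rw [mul_inv_rev, oG_inv, oG_inv, ← mul_assoc]
  exact e2.symm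

theorem mem_of_adj {M : Subgroup G24} [hM : M.Normal] {x y : Fi24.Gen}
    (h : coxLabel Fi24.edges x y = 3) (hx : oG x ∈ M) : oG y ∈ M := by
  rw [conj_adj h]
  exact hM.conj_mem _ hx _

theorem top_of_all {M : Subgroup G24} (h : ∀ x : Fi24.Gen, oG x ∈ M) : M = ⊤ := by
  rw [eq_top_iff, ← PresentedGroup.closure_range_of, Subgroup.closure_le]
  rintro _ ⟨x, rfl⟩
  exact h x

theorem top_of_l_mem {M : Subgroup G24} [hM : M.Normal] (h : lG ∈ M) : M = ⊤ := by
  have hl : oG .l ∈ M := h
  have hk := mem_of_adj (x := .l) (y := .k) (by decide) hl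
  have ha := mem_of_adj (x := .k) (y := .a) (by decide) hk
  have hb := mem_of_adj (x := .a) (y := .b) (by decide) ha
  have hc := mem_of_adj (x := .b) (y := .c) (by decide) hb
  have hd := mem_of_adj (x := .c) (y := .d) (by decide) hc
  have he := mem_of_adj (x := .d) (y := .e) (by decide) hd
  have hf := mem_of_adj (x := .e) (y := .f) (by decide) he
  have hg := mem_of_adj (x := .f) (y := .g) (by decide) hf
  have hj := mem_of_adj (x := .g) (y := .j) (by decide) hg
  have hh := mem_of_adj (x := .d) (y := .h) (by decide) hd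
  have hi := mem_of_adj (x := .h) (y := .i) (by decide) hh
  apply top_of_all
  intro x
  cases x <;> assumption

theorem H24_ne_top (hidx : H24.index = 306936) : H24 ≠ ⊤ := by
  intro h
  rw [h, Subgroup.index_top] at hidx
  norm_num at hidx

theorem k_not_mem (hidx : H24.index = 306936) : oG .k ∉ H24 := by
  intro hk
  apply H24_ne_top hidx
  apply top_of_all
  intro x
  by_cases hx : x = Fi24.Gen.k
  · subst hx; exact hk
  · exact oG_mem_H24 hx

theorem range_le_H24 : psi23.range ≤ H24 := by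
  rw [← Psi_range, Psi, MonoidHom.noncommCoprod_range]
  exact le_sup_left

/-! ### `Fi₂₃` has trivial centre -/

theorem center_Fi23 : Subgroup.center Fi23TC.G = ⊥ := by
  haveI := Fi23Ord.isSimple
  rcases (inferInstance : (Subgroup.center Fi23TC.G).Normal).eq_bot_or_eq_top with h | h
  · exact h
  · exfalso
    have hc : ∀ a b : Fi23TC.G, a * b = b * a := by
      intro a b
      have : b ∈ Subgroup.center Fi23TC.G := by rw [h]; exact Subgroup.mem_top b
      rw [Subgroup.mem_center_iff] at this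
      exact this a
    -- then `a = b` in `Fi₂₃`, hence every normal subgroup ... contradiction via the order
    letI : CommGroup Fi23TC.G := { (inferInstance : Group Fi23TC.G) with mul_comm := hc }
    have hp := IsSimpleGroup.prime_card (α := Fi23TC.G)
    rw [Fi23Ord.card_G] at hp
    norm_num at hp

/-! ### normal subgroups of `H` -/

theorem comm_aux {Γ : Type*} [Group Γ] (A B Z : Γ) (h1 : Commute A Z) :
    A * (B * Z) * A⁻¹ * (Z⁻¹ * B⁻¹) = A * B * A⁻¹ * B⁻¹ := by
  have : Z * A⁻¹ = A⁻¹ * Z := (h1.symm.inv_right).eq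
  calc A * (B * Z) * A⁻¹ * (Z⁻¹ * B⁻¹) = A * B * (Z * A⁻¹) * Z⁻¹ * B⁻¹ := by group
    _ = A * B * (A⁻¹ * Z) * Z⁻¹ * B⁻¹ := by rw [this]
    _ = A * B * A⁻¹ * B⁻¹ := by group

theorem H24_normal_cases (hinj : Function.Injective psi23) {N : Subgroup G24} (hN : N ≤ H24)
    (hnorm : ∀ h ∈ H24, ∀ n ∈ N, h * n * h⁻¹ ∈ N) (hne : N ≠ ⊥) :
    lG ∈ N ∨ psi23.range ≤ N := by
  haveI := Fi23Ord.isSimple
  have hF : psi23.range ≤ H24 := range_le_H24
  let C : Subgroup Fi23TC.G := N.comap psi23
  have hCn : C.Normal := ⟨fun x hx g => by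
    show psi23 (g * x * g⁻¹) ∈ N
    rw [map_mul, map_mul, map_inv]
    exact hnorm _ (hF ⟨g, rfl⟩) _ hx⟩
  rcases hCn.eq_bot_or_eq_top with hC | hC
  · left
    have hNF : ∀ x : Fi23TC.G, psi23 x ∈ N → x = 1 := fun x hx => by
      have : x ∈ C := hx
      rw [hC, Subgroup.mem_bot] at this
      exact this
    obtain ⟨n, hn, hn1⟩ : ∃ n ∈ N, n ≠ 1 := by
      by_contra hcon
      apply hne
      rw [Subgroup.eq_bot_iff_forall]
      intro x hx
      by_contra hx1
      exact hcon ⟨x, hx, hx1⟩
    have hnH := hN hn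
    rw [← Psi_range] at hnH
    obtain ⟨⟨f, z⟩, rfl⟩ := hnH
    have hf : f ∈ Subgroup.center Fi23TC.G := by
      rw [Subgroup.mem_center_iff]
      intro g
      have h1 : psi23 g * Psi (f, z) * (psi23 g)⁻¹ * (Psi (f, z))⁻¹ ∈ N :=
        N.mul_mem (hnorm _ (hF ⟨g, rfl⟩) _ hn) (N.inv_mem hn)
      have h2 : psi23 g * Psi (f, z) * (psi23 g)⁻¹ * (Psi (f, z))⁻¹
          = psi23 (g * f * g⁻¹ * f⁻¹) := by
        simp only [Psi, MonoidHom.noncommCoprod_apply, map_mul, map_inv, mul_inv_rev]
        exact comm_aux _ _ _ (comm_psi g z)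
      rw [h2] at h1
      have h3 := hNF _ h1
      have h4 : g * f = f * g := by
        have : g * f * g⁻¹ * f⁻¹ * f * g = f * g := by rw [h3, one_mul]
        rw [← this]; group
      exact h4
    rw [center_Fi23, Subgroup.mem_bot] at hf
    subst hf
    have hz : Psi (1, z) = (z : G24) := by
      simp [Psi, MonoidHom.noncommCoprod_apply]
    rw [hz] at hn hn1
    rcases mem_zpowers_lG z.2 with h | h
    · exact absurd h hn1
    · rw [← h]; exact hn
  · right
    rintro _ ⟨x, rfl⟩
    have : x ∈ C := by rw [hC]; exact Subgroup.mem_top x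
    exact this

/-- a normal subgroup of `Fi₂₄` containing the image of `Fi₂₃` is not contained in `H`. -/
theorem not_le_of_range_le (hidx : H24.index = 306936) {M : Subgroup G24} [hM : M.Normal]
    (hF : psi23.range ≤ M) (hMH : M ≤ H24) : False := by
  apply k_not_mem hidx
  -- `a b = (a l)(b l) ∈ M`
  have hab : oG .a * oG .b ∈ M := by
    have h1 : f23 .a * f23 .b ∈ M := M.mul_mem (hF ⟨_, psi23_of .a⟩) (hF ⟨_, psi23_of .b⟩)
    have h2 : f23 .a * f23 .b = oG .a * oG .b := by
      show (oG .a * lG) * (oG .b * lG) = oG .a * oG .b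
      have hc : lG * oG .b = oG .b * lG := ((comm_l .b).symm).eq
      rw [mul_assoc, ← mul_assoc lG, hc, mul_assoc, lG_sq, mul_one]
    rw [h2] at h1
    exact h1
  have h3 : oG .k * (oG .a * oG .b) * (oG .k)⁻¹ ∈ M := hM.conj_mem _ hab _
  have h4 := hMH h3
  -- `k a b k = (k a k) (k b k) = (k a k) b`
  have hkb : oG .k * oG .b = oG .b * oG .k := by
    have h := cox24 Fi24.Gen.k Fi24.Gen.b
    rw [labkb, pow_two] at h
    change (oG .k * oG .b) * (oG .k * oG .b) = 1 at h
    have h2 : oG .k * oG .b = (oG .k * oG .b)⁻¹ := by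
      rw [eq_inv_iff_mul_eq_one]; exact h
    rw [mul_inv_rev, oG_inv, oG_inv] at h2
    exact h2
  have h5 : oG .k * (oG .a * oG .b) * (oG .k)⁻¹ = (oG .k * oG .a * oG .k) * oG .b := by
    rw [oG_inv, mul_assoc (oG .k * oG .a), hkb]
    simp only [mul_assoc]
  rw [h5] at h4
  have h6 : oG .k * oG .a * oG .k ∈ H24 := by
    have := H24.mul_mem h4 (oG_mem_H24 (x := .b) (by decide))
    rw [mul_assoc, oG_sq, mul_one] at this
    exact this
  -- `k a k = a k a`
  have h7 : oG .k * oG .a * oG .k = oG .a * oG .k * oG .a := by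
    have h := conj_adj (x := .k) (y := .a) (by decide)
    rw [mul_inv_rev, oG_inv, oG_inv] at h
    -- a = k a k a k
    have h8 : oG .a * oG .k * oG .a = oG .a * oG .k * ((oG .k * oG .a) * oG .k * (oG .a * oG .k)) := by
      rw [← h]
    rw [h8]
    simp only [mul_assoc]
    rw [← mul_assoc (oG .k) (oG .k), oG_sq, one_mul, ← mul_assoc (oG .a) (oG .a), oG_sq, one_mul]
  rw [h7] at h6
  have ha : oG .a ∈ H24 := oG_mem_H24 (by decide)
  have := H24.mul_mem (H24.mul_mem ha h6) ha
  have e : oG .a * (oG .a * oG .k * oG .a) * oG .a = oG .k := by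
    simp only [mul_assoc]
    rw [oG_sq, mul_one, ← mul_assoc, oG_sq, one_mul]
  rw [e] at this
  exact this

end Cfsg.Agent.Helper17.Fi24Sp
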