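import Mathlib
import Cfsg.Agent.Helper17.Fi24Sp.Simple1

/-! A nontrivial normal subgroup of the presented `Fi₂₄` contains the commutator subgroup, provided
`H = ⟨a,…,j,l⟩` has index `306936`, is maximal, and `Fi₂₄ = H ∪ H x₁ H ∪ H x₂ H`. -/

set_option autoImplicit false
set_option linter.all false

noncomputable section

namespace Cfsg.Agent.Helper17.Fi24Sp

open Cfsg.Spor

/-- the double coset `H x H`. -/
def DC (x : G24) : Set G24 := {g | ∃ h ∈ H24, ∃ h' ∈ H24, g = h * x * h'}

/-- the rank-three hypotheses: two nontrivial double cosets, and maximality of `H`. -/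
structure Rank3 (x1 x2 : G24) : Prop where
  cover : ∀ g : G24, g ∈ H24 ∨ g ∈ DC x1 ∨ g ∈ DC x2
  maxi : ∀ L : Subgroup G24, H24 ≤ L → L ≠ H24 → L = ⊤

theorem finG24 (hidx : H24.index = 306936) : Finite G24 := by
  apply Nat.finite_of_card_ne_zero
  rw [card_G24 hidx]
  norm_num

theorem orderOf_eq_of_same_DC {M : Subgroup G24} [hM : M.Normal] (hMH : M ⊓ H24 = ⊥) {x m m' : G24}
    (hm : m ∈ M) (hm' : m' ∈ M) (h1 : m ∈ DC x) (h2 : m' ∈ DC x) : orderOf m = orderOf m' := by
  obtain ⟨h, hh, h', hh', rfl⟩ := h1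
  obtain ⟨k, hk, k', hk', rfl⟩ := h2
  set c : G24 := k * h⁻¹ with hc
  have hcH : c ∈ H24 := H24.mul_mem hk (H24.inv_mem hh)
  have e1 : (k * x * k')⁻¹ * (c * (h * x * h') * c⁻¹) = k'⁻¹ * h' * c⁻¹ := by
    rw [hc]; group
  have hmem : (k * x * k')⁻¹ * (c * (h * x * h') * c⁻¹) ∈ M ⊓ H24 := by
    refine ⟨M.mul_mem (M.inv_mem hm') (hM.conj_mem _ hm _), ?_⟩
    rw [e1]
    exact H24.mul_mem (H24.mul_mem (H24.inv_mem hk') hh') (H24.inv_mem hcH)
  rw [hMH, Subgroup.mem_bot, inv_mul_eq_one] at hmem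
  rw [hmem]
  exact ((MulAut.conj c).orderOf_eq (h * x * h')).symm

theorem card_of_regular (hidx : H24.index = 306936) {M : Subgroup G24} [hM : M.Normal]
    (hMH : M ⊓ H24 = ⊥) (hsup : M ⊔ H24 = ⊤) : Nat.card M = 306936 := by
  haveI := finG24 hidx
  have h1 : M.relIndex (H24 ⊔ M) = M.relIndex H24 := Subgroup.relIndex_sup_right H24 M
  rw [sup_comm, hsup, Subgroup.relIndex_top_right, ← Subgroup.inf_relIndex_right, hMH,
    Subgroup.relIndex_bot_left] at h1
  have h2 := Subgroup.card_mul_index M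
  rw [h1, card_G24 hidx, card_H24 hidx] at h2
  have : (0 : ℕ) < 2 * 4089470473293004800 := by norm_num
  exact Nat.eq_of_mul_eq_mul_right this (by rw [h2])

theorem not_regular (hidx : H24.index = 306936) {x1 x2 : G24} (hr : Rank3 x1 x2)
    {M : Subgroup G24} [hM : M.Normal] (hMH : M ⊓ H24 = ⊥) (hsup : M ⊔ H24 = ⊤) : False := by
  haveI := finG24 hidx
  have hcard := card_of_regular hidx hMH hsup
  have key : ∀ p : ℕ, p.Prime → p ∣ 306936 →
      ∃ m : G24, m ∈ M ∧ orderOf m = p ∧ (m ∈ DC x1 ∨ m ∈ DC x2) := by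
    intro p hp hd
    haveI : Fact p.Prime := ⟨hp⟩
    obtain ⟨m, hm⟩ := exists_prime_orderOf_dvd_card' (G := M) p (by rw [hcard]; exact hd)
    refine ⟨m.1, m.2, ?_, ?_⟩
    · rw [← hm]; exact Subgroup.orderOf_coe m
    · rcases hr.cover m.1 with h | h
      · exfalso
        have : m.1 ∈ M ⊓ H24 := ⟨m.2, h⟩
        rw [hMH, Subgroup.mem_bot] at this
        have h1 : orderOf m.1 = 1 := by rw [this, orderOf_one]
        rw [Subgroup.orderOf_coe, hm] at h1
        exact hp.one_lt.ne' h1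
      · exact h
  obtain ⟨m2, hm2, ho2, hd2⟩ := key 2 (by norm_num) (by norm_num)
  obtain ⟨m3, hm3, ho3, hd3⟩ := key 3 (by norm_num) (by norm_num)
  obtain ⟨m7, hm7, ho7, hd7⟩ := key 7 (by norm_num) (by norm_num)
  have c23 : ∀ x, m2 ∈ DC x → m3 ∈ DC x → False := fun x h h' => by
    have := orderOf_eq_of_same_DC hMH hm2 hm3 h h'
    rw [ho2, ho3] at this; norm_num at this
  have c27 : ∀ x, m2 ∈ DC x → m7 ∈ DC x → False := fun x h h' => by
    have := orderOf_eq_of_same_DC hMH hm2 hm7 h h'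
    rw [ho2, ho7] at this; norm_num at this
  have c37 : ∀ x, m3 ∈ DC x → m7 ∈ DC x → False := fun x h h' => by
    have := orderOf_eq_of_same_DC hMH hm3 hm7 h h'
    rw [ho3, ho7] at this; norm_num at this
  rcases hd2 with a | a <;> rcases hd3 with b | b <;> rcases hd7 with c | c
  · exact c23 _ a b
  · exact c23 _ a b
  · exact c27 _ a c
  · exact c37 _ b c
  · exact c37 _ b c
  · exact c27 _ a c
  · exact c23 _ a b
  · exact c23 _ a b

theorem H24_eq_sup : H24 = psi23.range ⊔ Subgroup.zpowers lG := by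
  rw [← Psi_range, Psi, MonoidHom.noncommCoprod_range, Subgroup.range_subtype]

/-- every nontrivial normal subgroup of `Fi₂₄` contains the commutator subgroup. -/
theorem commutator_le_of_normal (hidx : H24.index = 306936) {x1 x2 : G24} (hr : Rank3 x1 x2)
    {M : Subgroup G24} [hM : M.Normal] (hne : M ≠ ⊥) : commutator G24 ≤ M := by
  have hinj := psi23_injective hidx
  by_cases hL : M ⊔ H24 = H24
  · exfalso
    have hMle : M ≤ H24 := by rw [← hL]; exact le_sup_left
    rcases H24_normal_cases hinj hMle (fun h _ n hn => hM.conj_mem n hn h) hne with h | h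
    · have := top_of_l_mem h
      rw [this, top_le_iff] at hMle
      exact H24_ne_top hidx hMle
    · exact not_le_of_range_le hidx h hMle
  · have hsup : M ⊔ H24 = ⊤ := hr.maxi _ le_sup_right hL
    by_cases hN : M ⊓ H24 = ⊥
    · exact (not_regular hidx hr hN hsup).elim
    · rcases H24_normal_cases hinj (N := M ⊓ H24) inf_le_right
        (fun h hh n hn => ⟨hM.conj_mem n hn.1 h,
          H24.mul_mem (H24.mul_mem hh hn.2) (H24.inv_mem hh)⟩) hN with h | h
      · rw [top_of_l_mem h.1]; exact le_top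
      · have hF : psi23.range ≤ M := h.trans inf_le_left
        have hs : M ⊔ Subgroup.zpowers lG = ⊤ := by
          rw [eq_top_iff, ← hsup, H24_eq_sup, ← sup_assoc]
          exact sup_le_sup_right (sup_le le_rfl hF) _
        exact Subgroup.Normal.commutator_le_of_self_sup_commutative_eq_top hs inferInstance

end Cfsg.Agent.Helper17.Fi24Sp
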