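import Mathlib
import Cfsg.Agent.Helper17.Fi24Sp.Simple2

/-! The commutator subgroup of the presented `Fi₂₄` is simple of order `1255205709190661721292800`
(given the index of `H`, the index of the commutator subgroup and the rank-three hypotheses). -/

set_option autoImplicit false
set_option linter.all false

noncomputable section

namespace Cfsg.Agent.Helper17.Fi24Sp

open Cfsg.Spor

abbrev D24 : Subgroup G24 := commutator G24

theorem card_D24 (hidx : H24.index = 306936) (hcomm : D24.index = 2) :
    Nat.card D24 = 1255205709190661721292800 := by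
  have h := Subgroup.card_mul_index D24
  rw [hcomm, card_G24 hidx] at h
  omega

theorem a_not_mem : oG .a ∉ D24 := by
  intro h
  have h1 : D24 ≤ sgn.ker := Abelianization.commutator_subset_ker sgn
  have h2 := h1 h
  rw [MonoidHom.mem_ker, sgn_oG] at h2
  exact absurd h2 (by decide)

/-- conjugation by `a` on the commutator subgroup. -/
def alpha : MulAut D24 := MulAut.conjNormal (oG .a)

theorem alpha_apply (x : D24) : ((alpha x : D24) : G24) = oG .a * x * (oG .a)⁻¹ :=
  MulAut.conjNormal_apply _ _

theorem alpha_alpha (x : D24) : alpha (alpha x) = x := by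
  apply Subtype.ext
  rw [alpha_apply, alpha_apply, oG_inv]
  simp only [mul_assoc]
  rw [oG_sq, mul_one, ← mul_assoc, oG_sq, one_mul]

theorem map_alpha_alpha (T : Subgroup D24) :
    (T.map alpha.toMonoidHom).map alpha.toMonoidHom = T := by
  ext x
  constructor
  · rintro ⟨_, ⟨y, hy, rfl⟩, rfl⟩
    show alpha (alpha y) ∈ T
    rw [alpha_alpha]; exact hy
  · intro hx
    exact ⟨alpha x, ⟨x, hx, rfl⟩, alpha_alpha x⟩

theorem normal_map_of_invariant (hcomm : D24.index = 2) {T : Subgroup D24} [hT : T.Normal]
    (hα : T.map alpha.toMonoidHom = T) : (T.map D24.subtype).Normal := by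
  constructor
  rintro _ ⟨t, ht, rfl⟩ g
  by_cases hg : g ∈ D24
  · refine ⟨⟨g, hg⟩ * t * ⟨g, hg⟩⁻¹, hT.conj_mem t ht _, ?_⟩
    simp
  · -- `g = a * d`
    have hd : (oG .a)⁻¹ * g ∈ D24 := by
      rw [Subgroup.mul_mem_iff_of_index_two hcomm]
      constructor
      · intro h; exact absurd (D24.inv_mem_iff.mp h) a_not_mem
      · intro h; exact absurd h hg
    set d : D24 := ⟨(oG .a)⁻¹ * g, hd⟩ with hdd
    have h1 : alpha (d * t * d⁻¹) ∈ T := by
      rw [← hα]
      exact ⟨_, hT.conj_mem t ht d, rfl⟩
    refine ⟨alpha (d * t * d⁻¹), h1, ?_⟩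
    show ((alpha (d * t * d⁻¹) : D24) : G24) = g * (t : G24) * g⁻¹
    rw [alpha_apply]
    simp only [Subgroup.coe_mul, Subgroup.coe_inv, hdd]
    group

theorem top_of_le_map {T : Subgroup D24} (h : D24 ≤ T.map D24.subtype) : T = ⊤ := by
  rw [eq_top_iff]
  intro x _
  obtain ⟨y, hy, hyx⟩ := h x.2
  have : y = x := Subtype.ext hyx
  rw [← this]; exact hy

theorem simple_D24 (hidx : H24.index = 306936) (hcomm : D24.index = 2) {x1 x2 : G24}
    (hr : Rank3 x1 x2) : IsSimpleGroup D24 := by
  haveI := finG24 hidx
  have hcard := card_D24 hidx hcomm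
  haveI : Nontrivial D24 := by
    rw [← Finite.one_lt_card_iff_nontrivial, hcard]; norm_num
  refine ⟨fun K hK => ?_⟩
  set K2 : Subgroup D24 := K.map alpha.toMonoidHom with hK2
  haveI hK2n : K2.Normal := by
    constructor
    rintro _ ⟨y, hy, rfl⟩ g
    refine ⟨alpha.symm g * y * (alpha.symm g)⁻¹, hK.conj_mem y hy _, ?_⟩
    show alpha (alpha.symm g * y * (alpha.symm g)⁻¹) = g * alpha y * g⁻¹
    rw [map_mul, map_mul, map_inv, MulEquiv.apply_symm_apply]
  have hK2map : K2.map alpha.toMonoidHom = K := map_alpha_alpha K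
  have hinjα : Function.Injective alpha.toMonoidHom := alpha.injective
  -- the intersection
  have hAinv : (K ⊓ K2).map alpha.toMonoidHom = K ⊓ K2 := by
    rw [Subgroup.map_inf _ _ _ hinjα, hK2map, inf_comm]
  have hBinv : (K ⊔ K2).map alpha.toMonoidHom = K ⊔ K2 := by
    rw [Subgroup.map_sup, hK2map, sup_comm]
  haveI hAn : ((K ⊓ K2).map D24.subtype).Normal := normal_map_of_invariant hcomm hAinv
  haveI hBn : ((K ⊔ K2).map D24.subtype).Normal := normal_map_of_invariant hcomm hBinv
  by_cases hA : (K ⊓ K2).map D24.subtype = ⊥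
  · -- trivial intersection
    by_cases hKb : K = ⊥
    · exact Or.inl hKb
    · exfalso
      have hA0 : K ⊓ K2 = ⊥ := by
        rw [← Subgroup.map_eq_bot_iff_of_injective _ D24.subtype_injective]; exact hA
      have hBne : (K ⊔ K2).map D24.subtype ≠ ⊥ := by
        rw [Ne, Subgroup.map_eq_bot_iff_of_injective _ D24.subtype_injective]
        intro h
        apply hKb
        rw [eq_bot_iff, ← h]; exact le_sup_left
      have hB := commutator_le_of_normal hidx hr hBne
      have hBtop : K ⊔ K2 = ⊤ := top_of_le_map hB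
      -- counting
      have h1 : K2.relIndex (K ⊔ K2) = K2.relIndex K := Subgroup.relIndex_sup_right K K2
      rw [hBtop, Subgroup.relIndex_top_right, ← Subgroup.inf_relIndex_right, inf_comm, hA0,
        Subgroup.relIndex_bot_left] at h1
      have h2 := Subgroup.card_mul_index K2
      rw [h1, hK2, Subgroup.card_map_of_injective hinjα, hcard] at h2
      -- `|K|² = |D|`, impossible since `29` divides `|D|` exactly once
      have h29 : 29 ∣ Nat.card K * Nat.card K := by rw [h2]; norm_num
      have h29' : 29 ∣ Nat.card K := by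
        rcases (Nat.Prime.dvd_mul (by norm_num : Nat.Prime 29)).mp h29 with h | h <;> exact h
      have h841 : 29 * 29 ∣ Nat.card K * Nat.card K := Nat.mul_dvd_mul h29' h29'
      rw [h2] at h841
      norm_num at h841
  · right
    have hAle := commutator_le_of_normal hidx hr hA
    have : K ⊓ K2 = ⊤ := top_of_le_map hAle
    rw [eq_top_iff, ← this]; exact inf_le_left

end Cfsg.Agent.Helper17.Fi24Sp
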