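import Mathlib
import Cfsg.Agent.Helper17.Fi24Sp.Simple3

/-! `Rank3` from a double coset decomposition `G = H ∪ H k H ∪ H u H` and one element of `H k H`
in `⟨H, u⟩`. -/

set_option autoImplicit false
set_option linter.all false

noncomputable section

namespace Cfsg.Agent.Helper17.Fi24Sp

open Cfsg.Spor

theorem top_of_k_mem {L : Subgroup G24} (hL : H24 ≤ L) (hk : oG .k ∈ L) : L = ⊤ := by
  apply top_of_all
  intro x
  by_cases hx : x = Fi24.Gen.k
  · subst hx; exact hk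
  · exact hL (oG_mem_H24 hx)

theorem mem_of_DC {L : Subgroup G24} (hL : H24 ≤ L) {x g : G24} (hg : g ∈ L) (hx : g ∈ DC x) :
    x ∈ L := by
  obtain ⟨h, hh, h', hh', rfl⟩ := hx
  have h1 : h⁻¹ * (h * x * h') * h'⁻¹ ∈ L :=
    L.mul_mem (L.mul_mem (L.inv_mem (hL hh)) hg) (L.inv_mem (hL hh'))
  have h2 : h⁻¹ * (h * x * h') * h'⁻¹ = x := by group
  rwa [h2] at h1

theorem rank3_of_cover {u b : G24} (hb : b ∈ H24)
    (cover : ∀ g : G24, g ∈ H24 ∨ g ∈ DC (oG .k) ∨ g ∈ DC u)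
    (hy : u * b * u ∈ DC (oG .k)) : Rank3 (oG .k) u := by
  refine ⟨cover, ?_⟩
  intro L hL hne
  have hnle : ¬ L ≤ H24 := fun h => hne (le_antisymm h hL)
  obtain ⟨g, hgL, hgH⟩ := SetLike.not_le_iff_exists.mp hnle
  rcases cover g with h | h | h
  · exact absurd h hgH
  · exact top_of_k_mem hL (mem_of_DC hL hgL h)
  · have hu : u ∈ L := mem_of_DC hL hgL h
    have hy' : u * b * u ∈ L := L.mul_mem (L.mul_mem hu (hL hb)) hu
    exact top_of_k_mem hL (mem_of_DC hL hy' hy)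

end Cfsg.Agent.Helper17.Fi24Sp
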