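import Mathlib
import Cfsg.Agent.Helper19.Fi24Ord.Closed
import Cfsg.Agent.Helper17.OrbCert.Sound
import Cfsg.Agent.Helper17.Fi24Sp.OrbAll
import Cfsg.Agent.Helper17.Fi24Sp.Simple4

/-! The rank-three property of the presented `Fi₂₄` on the cosets of `H = ⟨a,…,j,l⟩`:
`G = H ∪ H k H ∪ H (k a l k) H` (orbit certificate on the 306936 rows of the coset table
`Helper19.Fi24P`), and `H` is maximal. -/

set_option autoImplicit false
set_option linter.all false
set_option maxRecDepth 100000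

noncomputable section

namespace Cfsg.Agent.Helper17.Fi24Sp

open Cfsg.Spor Cfsg.Agent.Helper19.TCS Cfsg.Agent.Helper17.OrbCert
open Cfsg.Agent.Helper19

theorem H24_eq : H24 = Fi24Ord.Hs := rfl

theorem gG_eq (l : ℕ) : Fi24Ord.gG l = oG (Fi24Ord.gen l) := rfl

theorem isH_spec {l : ℕ} (h : isH l = true) : l < 12 ∧ l ≠ 1 := by
  unfold isH at h
  cases hb : Nat.beq l 1 with
  | true => rw [hb, bIf_true] at h; exact absurd h (by decide)
  | false =>
    rw [hb, bIf_false] at h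
    refine ⟨by simpa using h, ?_⟩
    rintro rfl
    exact absurd hb (by decide)

theorem isRoot_spec {i : ℕ} (h : isRoot i = true) : i = 0 ∨ i = 1 ∨ i = 6 := by
  unfold isRoot at h
  cases h0 : Nat.beq i 0 with
  | true => exact Or.inl (Nat.eq_of_beq_eq_true h0)
  | false =>
    rw [h0, bIf_false] at h
    cases h1 : Nat.beq i 1 with
    | true => exact Or.inr (Or.inl (Nat.eq_of_beq_eq_true h1))
    | false =>
      rw [h1, bIf_false] at h
      exact Or.inr (Or.inr (Nat.eq_of_beq_eq_true h))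

theorem ev1 : evalw 524288 Fi24P.ent [1] 0 = 1 := by
  simp only [evalw]; decide +kernel

theorem ev2 : evalw 524288 Fi24P.ent [1, 0, 2, 1] 0 = 6 := by
  simp only [evalw]; decide +kernel

theorem ev3 : evalw 524288 Fi24P.ent [1, 0, 2, 1, 3, 1, 0, 2, 1] 0 =
    evalw 524288 Fi24P.ent [1, 2, 3] 0 := by
  simp only [evalw]; decide +kernel

/-- the double coset representative `k a l k`. -/
def u24 : G24 := oG .k * oG .a * oG .l * oG .k

theorem prodw_nil : prodw Fi24Ord.gG [] = (1 : G24) := rfl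

theorem prodw_k : prodw Fi24Ord.gG [1] = oG .k := by
  simp [prodw, gG_eq, Fi24Ord.gen]

theorem prodw_u : prodw Fi24Ord.gG [1, 0, 2, 1] = u24 := by
  simp [prodw, gG_eq, Fi24Ord.gen, u24, mul_assoc]

theorem prodw_y : prodw Fi24Ord.gG [1, 0, 2, 1, 3, 1, 0, 2, 1] = u24 * oG .b * u24 := by
  simp [prodw, gG_eq, Fi24Ord.gen, u24, mul_assoc]

theorem prodw_bak : prodw Fi24Ord.gG [1, 2, 3] = oG .b * oG .a * oG .k := by
  simp [prodw, gG_eq, Fi24Ord.gen, mul_assoc]

theorem cover24 (g : G24) : g ∈ H24 ∨ g ∈ DC (oG .k) ∨ g ∈ DC u24 := by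
  obtain ⟨S, hcl⟩ := Fi24Ord.closed
  have hH : ∀ l, isH l = true → l < 12 ∧ Fi24Ord.gG l ∈ Fi24Ord.Hs := fun l hl =>
    ⟨(isH_spec hl).1, Fi24Ord.gG_mem_Hs (isH_spec hl).1 (isH_spec hl).2⟩
  obtain ⟨w, hw, h, hh, h', hh', hg⟩ := double_coset_cover S Fi24Ord.hgen hcl hH okPt_all
    [[], [1], [1, 0, 2, 1]] (by decide)
    (by
      intro r _ hr
      rcases isRoot_spec hr with rfl | rfl | rfl
      · exact ⟨[], by simp, rfl⟩
      · exact ⟨[1], by simp, ev1⟩
      · exact ⟨[1, 0, 2, 1], by simp, ev2⟩) g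
  simp only [List.mem_cons, List.not_mem_nil, or_false] at hw
  rcases hw with rfl | rfl | rfl
  · left
    rw [prodw_nil, mul_one] at hg
    rw [hg, H24_eq]
    exact Fi24Ord.Hs.mul_mem hh hh'
  · right; left
    rw [prodw_k] at hg
    exact ⟨h, hh, h', hh', hg⟩
  · right; right
    rw [prodw_u] at hg
    exact ⟨h, hh, h', hh', hg⟩

theorem y_mem_DC : u24 * oG .b * u24 ∈ DC (oG .k) := by
  obtain ⟨S, hcl⟩ := Fi24Ord.closed
  have h1 := nd_evalw_zero S hcl (w := [1, 0, 2, 1, 3, 1, 0, 2, 1]) (by decide)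
  have h2 := nd_evalw_zero S hcl (w := [1, 2, 3]) (by decide)
  rw [ev3, h2, prodw_y, prodw_bak] at h1
  have h3 : (oG .b * oG .a * oG .k)⁻¹ * (u24 * oG .b * u24) ∈ Fi24Ord.Hs :=
    QuotientGroup.eq.mp h1
  refine ⟨oG .b * oG .a, ?_, _, h3, by group⟩
  exact H24.mul_mem (oG_mem_H24 (by decide)) (oG_mem_H24 (by decide))

/-- the rank-three hypotheses hold for `k` and `k a l k`. -/
theorem rank3_24 : Rank3 (oG .k) u24 :=
  rank3_of_cover (oG_mem_H24 (by decide)) cover24 y_mem_DC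

end Cfsg.Agent.Helper17.Fi24Sp
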